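import Cfsg.Agent.Cit.Nil.CV3.NoS
import Cfsg.Agent.Cit.Nil.CV.SecOne

/-!
# (CV), (4b) (1) of helper748's text #16760 (S1309)

`F` a normal subgroup of `G` containing the `z_K`, whose involutions are the `z_K`, all conjugate in `F`.

* `FH.mem_A` : an involution of `N(A) ∩ F` is in `A`;
* `FH.lk` : roots over different involutions are linked;
* `FH.nor` : `C_F(z_K) ≤ N(K)`;
* `FH.three` : there are exactly three involutions `v * v`, `v` a root of `A`.
-/

set_option autoImplicit false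
set_option linter.style.haveILetI false
set_option linter.unusedSectionVars false

namespace Cfsg.Agent.Cit.Nil.CV3

open Subgroup Cfsg Cit Tau Cit.CV

variable {G : Type*} [Group G] [Finite G]
variable {Om : Set (Subgroup G)} {U : Subgroup G → Subgroup G} {A B F K L N : Subgroup G} {a e g s t v w x y z : G}

/-- the situation of (4b) -/
structure FH (Om : Set (Subgroup G)) (U : Subgroup G → Subgroup G) (F : Subgroup G) : Prop where
  cw : CW Om U
  nF : F.Normal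
  zF : ∀ K ∈ Om, zz K ∈ F
  inv : ∀ x ∈ F, x * x = 1 → x ≠ 1 → ∃ K ∈ Om, zz K = x
  con : ∀ K ∈ Om, ∀ L ∈ Om, ∃ g ∈ F, g * zz K * g⁻¹ = zz L

theorem inv_ne_of_four (hv4 : orderOf v = 4) : v⁻¹ ≠ v := by
  intro h1
  have h2 : v * v = 1 := by nth_rewrite 1 [← h1]; exact inv_mul_cancel v
  have h3 : orderOf v ∣ 2 := orderOf_dvd_of_pow_eq_one (by rw [pow_two, h2])
  rw [hv4] at h3
  exact absurd (Nat.le_of_dvd (by norm_num) h3) (by norm_num)

namespace FH

/-- an involution of `N(A) ∩ F` is in `A` -/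
theorem mem_A (h : FH Om U F) (hA : IsA Om U A) (hx : x ∈ F) (hxA : x ∈ normalizer (A : Set G)) (h2 : x * x = 1) :
    x ∈ A := by
  by_cases h1 : x = 1
  · rw [h1]; exact A.one_mem
  · obtain ⟨K, hK, rfl⟩ := h.inv x hx h2 h1
    exact no_s h.cw hA hK hxA

/-- KEY: an involution of `N(A) ∩ F` inverts no root -/
theorem key (h : FH Om U F) (hA : IsA Om U A) (hx : x ∈ F) (hxA : x ∈ normalizer (A : Set G)) (h2 : x * x = 1)
    (hv : v ∈ RR Om U A) (hi : x * v * x⁻¹ = v⁻¹) : False := by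
  have h1 := h.cw.comm hA (h.mem_A hA hx hxA h2) hv.1
  rw [h1, mul_inv_cancel_right] at hi
  exact inv_ne_of_four hv.2.1 hi.symm

/-- a root over an involution of `A` which is in `F` -/
theorem exists_over (h : FH Om U F) (hA : IsA Om U A) (hx : x ∈ A) (hxF : x ∈ F) (h2 : x * x = 1) (h1 : x ≠ 1) :
    ∃ v ∈ RR Om U A, v * v = x := by
  obtain ⟨K, hK, rfl⟩ := h.inv x hxF h2 h1
  obtain ⟨v, hv, hv4⟩ := h.cw.exists_v hK
  have h3 := h.cw.sq_eq hK hv hv4
  exact ⟨v, ovr h.cw hA hK hv hv4 (by rw [h3]; exact hx), h3⟩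

theorem sqF (h : FH Om U F) (hv : v ∈ RR Om U A) : v * v ∈ F := by
  obtain ⟨K, hK, -, h1⟩ := exists_zz h.cw.toCVW hv
  rw [h1]; exact h.zF K hK

/-- the product of two different involutions `v * v`, `w * w` is of this form -/
theorem prod (h : FH Om U F) (hA : IsA Om U A) (hv : v ∈ RR Om U A) (hw : w ∈ RR Om U A) (hne : v * v ≠ w * w) :
    ∃ u ∈ RR Om U A, u * u = v * v * (w * w) := by
  have hvA := A.mul_mem hv.1 hv.1
  have hwA := A.mul_mem hw.1 hw.1
  have hc := h.cw.comm hA hwA hvA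
  refine h.exists_over hA (A.mul_mem hvA hwA) (F.mul_mem (h.sqF hv) (h.sqF hw)) ?_ ?_
  · calc v * v * (w * w) * (v * v * (w * w)) = v * v * ((w * w) * (v * v)) * (w * w) := by group
      _ = v * v * ((v * v) * (w * w)) * (w * w) := by rw [hc]
      _ = (v * v * (v * v)) * (w * w * (w * w)) := by group
      _ = 1 := by rw [sq_sq hv, sq_sq hw, one_mul]
  · intro h1
    have h2 := eq_inv_of_mul_eq_one_left h1
    rw [inv_eq_of_mul_eq_one_left (sq_sq hw)] at h2
    exact hne h2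

/-- orthogonality depends on the squares only -/
theorem orth_of_sq (h : FH Om U F) (hA : IsA Om U A) (hv : v ∈ RR Om U A) (hw : w ∈ RR Om U A)
    (h0 : al Om U v (w * w) = 0) (hne : v * v ≠ w * w) : al Om U v w = 0 := by
  have h1 := h.cw.al_sq hA hv hw.1
  rw [h0] at h1
  have h2 : al Om U v w = 0 ∨ al Om U v w = 2 := by
    revert h1
    generalize al Om U v w = i
    revert i
    decide
  rcases h2 with h2 | h2
  · exact h2
  · exfalso
    rcases h.cw.al_two hA hv hw h2 with h3 | h3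
    · exact hne (by rw [h3])
    · exact hne (by rw [h3, CVW.sq_inv hv])

/-- **(1a)** -/
theorem lk (h : FH Om U F) (hA : IsA Om U A) (hv : v ∈ RR Om U A) (hw : w ∈ RR Om U A) (hne : v * v ≠ w * w) :
    Lk Om U v w := by
  refine ⟨fun h0 => ?_, fun h2 => ?_⟩
  swap
  · rcases h.cw.al_two hA hv hw h2 with h3 | h3
    · exact hne (by rw [h3])
    · exact hne (by rw [h3, CVW.sq_inv hv])
  haveI := h.nF
  have hc := h.cw.toCVW
  obtain ⟨u, hu, huu⟩ := h.prod hA hv hw hne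
  obtain ⟨K, hK, hvK, hvz⟩ := exists_zz hc hv
  obtain ⟨L, hL, hwL, hwz⟩ := exists_zz hc hw
  obtain ⟨M, hM, huM, huz⟩ := exists_zz hc hu
  obtain ⟨g, hg, hgz⟩ := h.con K hK L hL
  obtain ⟨k, hk, hkz⟩ := h.con K hK M hM
  obtain ⟨y, hy, hyX⟩ := hc.exists_y hK
  -- the three roots `v`, `v2 = v^g`, `v3 = v^k`
  have hsq : ∀ g : G, (g * v * g⁻¹) * (g * v * g⁻¹) = g * zz K * g⁻¹ := by
    intro g; rw [sq_conj, hvz]
  have hv2sq : (g * v * g⁻¹) * (g * v * g⁻¹) = w * w := by rw [hsq, hgz, hwz]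
  have hv3sq : (k * v * k⁻¹) * (k * v * k⁻¹) = v * v * (w * w) := by rw [hsq, hkz, ← huz, huu]
  have hcK := fun g : G => h.cw.hyp.conj K hK g
  have hv2U := h.cw.vch.conj_mem hK hvK g
  have hv3U := h.cw.vch.conj_mem hK hvK k
  have hv2 : g * v * g⁻¹ ∈ RR Om U A :=
    ovr h.cw hA (hcK g) hv2U (orderOf_conj_four hv.2.1 g) (by rw [hv2sq]; exact A.mul_mem hw.1 hw.1)
  have hv3 : k * v * k⁻¹ ∈ RR Om U A :=
    ovr h.cw hA (hcK k) hv3U (orderOf_conj_four hv.2.1 k)
      (by rw [hv3sq]; exact A.mul_mem (A.mul_mem hv.1 hv.1) (A.mul_mem hw.1 hw.1))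
  -- orthogonality
  have hvv1 : v * v ≠ 1 := (ne_one_of_RR hv).2
  have hww1 : w * w ≠ 1 := (ne_one_of_RR hw).2
  have e1 : al Om U v (v * v) = 0 := by rw [hc.al_sq hA hv hv.1, hc.al_self hA hv]; decide
  have e2 : al Om U v (w * w) = 0 := by rw [hc.al_sq hA hv hw.1, h0, mul_zero]
  have o2 : al Om U v (g * v * g⁻¹) = 0 := h.orth_of_sq hA hv hv2 (by rw [hv2sq, e2]) (by rw [hv2sq]; exact hne)
  have o3 : al Om U v (k * v * k⁻¹) = 0 := by
    refine h.orth_of_sq hA hv hv3 ?_ ?_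
    · rw [hv3sq, hc.al_mul hA hv (A.mul_mem hv.1 hv.1) (A.mul_mem hw.1 hw.1), e1, e2, add_zero]
    · rw [hv3sq]
      intro h3
      exact hww1 (left_eq_mul.mp h3)
  have o2' : al Om U (g * v * g⁻¹) v = 0 := hc.al_zero_symm hA hv hv2 o2
  have o23 : al Om U (g * v * g⁻¹) (k * v * k⁻¹) = 0 := by
    refine h.orth_of_sq hA hv2 hv3 ?_ ?_
    · rw [hv3sq, hc.al_mul hA hv2 (A.mul_mem hv.1 hv.1) (A.mul_mem hw.1 hw.1), hc.al_sq hA hv2 hv.1, o2', mul_zero,
        ← hv2sq, hc.al_sq hA hv2 hv2.1, hc.al_self hA hv2]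
      decide
    · rw [hv2sq, hv3sq]
      intro h3
      exact hvv1 (right_eq_mul.mp h3)
  have c2 := (hc.comm_of_al_zero hA hK hvK hv.2.1 hv.1 (hcK g) hv2U hv2.2.1 hv2.1 o2).2
  have c3 := (hc.comm_of_al_zero hA hK hvK hv.2.1 hv.1 (hcK k) hv3U hv3.2.1 hv3.1 o3).2
  have c23 := (hc.comm_of_al_zero hA (hcK g) hv2U hv2.2.1 hv2.1 (hcK k) hv3U hv3.2.1 hv3.1 o23).2
  have hvK' : v ∈ K := hc.vch.le K hK hvK
  have hyv : y * v ∈ K := K.mul_mem hy hvK'
  have hvX : v ∈ XX U K := hc.U_le_XX hK hvK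
  have hyvX : y * v ∉ XX U K := fun h3 => hyX ((Subgroup.mul_mem_cancel_right _ hvX).mp h3)
  have m2 : g * v * g⁻¹ ∈ cj g K := conj_mem_cj hvK'
  have m3 : k * (y * v) * k⁻¹ ∈ cj k K := conj_mem_cj hyv
  set p := g * v * g⁻¹ with hp
  set q := k * (y * v) * k⁻¹ with hq
  have cyp : y * p = p * y := c2 y hy p m2
  have cyq : y * q = q * y := c3 y hy q m3
  have cpq : p * q = q * p := c23 p m2 q m3
  have cvp : v * p = p * v := c2 v hvK' p m2
  have cvq : v * q = q * v := c3 v hvK' q m3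
  have hyy : y * y = v * v := by rw [(hc.y_facts hK hy hyX).1, hvz]
  have hqq : q * q = v * v * (w * w) := by
    have h3 : y * v * (y * v) = zz K := (hc.y_facts hK hyv hyvX).1
    calc q * q = k * (y * v * (y * v)) * k⁻¹ := by rw [hq]; group
      _ = k * zz K * k⁻¹ := by rw [h3]
      _ = v * v * (w * w) := by rw [hkz, ← huz, huu]
  -- `x = y p q`
  have hx2 : (y * p * q) * (y * p * q) = 1 := by
    have h3 := h.cw.comm hA (A.mul_mem hw.1 hw.1) (A.mul_mem hv.1 hv.1)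
    calc (y * p * q) * (y * p * q) = y * p * (q * y) * p * q := by group
      _ = y * p * (y * q) * p * q := by rw [cyq]
      _ = y * (p * y) * (q * p) * q := by group
      _ = y * (y * p) * (p * q) * q := by rw [cyp, cpq]
      _ = (y * y) * (p * p) * (q * q) := by group
      _ = v * v * (w * w) * (v * v * (w * w)) := by rw [hyy, hqq, hp, hv2sq]
      _ = v * v * ((w * w) * (v * v)) * (w * w) := by group
      _ = v * v * ((v * v) * (w * w)) * (w * w) := by rw [h3]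
      _ = (v * v * (v * v)) * (w * w * (w * w)) := by group
      _ = 1 := by rw [sq_sq hv, sq_sq hw, one_mul]
  have hxF : y * p * q ∈ F := by
    rw [← QuotientGroup.eq_one_iff]
    have hg1 : ((g : G) : G ⧸ F) = 1 := (QuotientGroup.eq_one_iff g).mpr hg
    have hk1 : ((k : G) : G ⧸ F) = 1 := (QuotientGroup.eq_one_iff k).mpr hk
    have h4 : y * v * (y * v) ∈ F := by
      rw [(hc.y_facts hK hyv hyvX).1]; exact h.zF K hK
    have h5 := (QuotientGroup.eq_one_iff _).mpr h4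
    rw [← h5, hp, hq]
    simp only [QuotientGroup.mk_mul, QuotientGroup.mk_inv, hg1, hk1]
    group
  have hxA : y * p * q ∈ normalizer (A : Set G) := by
    refine mul_mem (mul_mem ?_ ?_) ?_
    · exact hc.K_le_norm hA hK hvK hv.2.1 hv.1 hy
    · exact le_normalizer hv2.1
    · exact hc.K_le_norm hA (hcK k) hv3U hv3.2.1 hv3.1 m3
  refine h.key hA hxF hxA hx2 hv ?_
  have h6 : p * q * v * (p * q)⁻¹ = v := by
    rw [mul_inv_eq_iff_eq_mul]
    calc p * q * v = p * (q * v) := by group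
      _ = p * (v * q) := by rw [cvq]
      _ = (p * v) * q := by group
      _ = v * p * q := by rw [cvp]
      _ = v * (p * q) := by group
  calc y * p * q * v * (y * p * q)⁻¹ = y * (p * q * v * (p * q)⁻¹) * y⁻¹ := by group
    _ = v⁻¹ := by rw [h6]; exact hc.y_inv hK hy hyX hvK

/-- **(1b)** -/
theorem nor (h : FH Om U F) (hK : K ∈ Om) (hg : g ∈ F) (hgz : g * zz K = zz K * g) : g ∈ normalizer (K : Set G) := by
  by_contra hno
  haveI := h.nF
  have hc := h.cw.toCVW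
  obtain ⟨A, hA, v, hv, hvK, hvz⟩ := exists_isA hc hK
  obtain ⟨y, hy, hyX⟩ := hc.exists_y hK
  have hgK := hc.hyp.conj K hK g
  have hz : zz K = zz (cj g K) := by
    rw [hc.hyp.zz_cj hK, hgz, mul_inv_cancel_right]
  have hne : K ≠ cj g K := by
    intro h1
    exact hno (by rw [mem_normalizer_iff_cj]; exact h1.symm)
  have hcomm : ∀ a ∈ K, ∀ b ∈ cj g K, a * b = b * a := fun a ha b hb => hc.comm_of_zz_eq hK hgK hz hne ha hb
  have hp : g * y * g⁻¹ ∈ cj g K := conj_mem_cj hy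
  have cyp := hcomm y hy _ hp
  have hyy := (hc.y_facts hK hy hyX).1
  have hpp : g * y * g⁻¹ * (g * y * g⁻¹) = zz K := by
    rw [sq_conj, hyy, hgz, mul_inv_cancel_right]
  have hx2 : y * (g * y * g⁻¹) * (y * (g * y * g⁻¹)) = 1 := by
    calc y * (g * y * g⁻¹) * (y * (g * y * g⁻¹)) = y * ((g * y * g⁻¹) * y) * (g * y * g⁻¹) := by group
      _ = y * (y * (g * y * g⁻¹)) * (g * y * g⁻¹) := by rw [cyp]
      _ = (y * y) * (g * y * g⁻¹ * (g * y * g⁻¹)) := by group
      _ = 1 := by rw [hyy, hpp]; exact hc.hyp.zz_mul hK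
  have hxF : y * (g * y * g⁻¹) ∈ F := by
    rw [← QuotientGroup.eq_one_iff]
    have hg1 : ((g : G) : G ⧸ F) = 1 := (QuotientGroup.eq_one_iff g).mpr hg
    have h4 : y * y ∈ F := by rw [hyy]; exact h.zF K hK
    have h5 := (QuotientGroup.eq_one_iff _).mpr h4
    rw [← h5]
    simp only [QuotientGroup.mk_mul, QuotientGroup.mk_inv, hg1]
    group
  have hv' : g * v * g⁻¹ ∈ RR Om U A := by
    refine ovr h.cw hA hgK (hc.vch.conj_mem hK hvK g) (orderOf_conj_four hv.2.1 g) ?_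
    rw [sq_conj, hvz, hgz, mul_inv_cancel_right, ← hvz]
    exact A.mul_mem hv.1 hv.1
  have hxA : y * (g * y * g⁻¹) ∈ normalizer (A : Set G) :=
    mul_mem (hc.K_le_norm hA hK hvK hv.2.1 hv.1 hy)
      (hc.K_le_norm hA hgK (hc.vch.conj_mem hK hvK g) hv'.2.1 hv'.1 hp)
  refine h.key hA hxF hxA hx2 hv ?_
  have h6 := hcomm v (hc.vch.le K hK hvK) _ hp
  calc y * (g * y * g⁻¹) * v * (y * (g * y * g⁻¹))⁻¹ =
      y * ((g * y * g⁻¹) * v * (g * y * g⁻¹)⁻¹) * y⁻¹ := by group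
    _ = y * (v * (g * y * g⁻¹) * (g * y * g⁻¹)⁻¹) * y⁻¹ := by rw [h6]
    _ = v⁻¹ := by rw [mul_inv_cancel_right]; exact hc.y_inv hK hy hyX hvK

theorem nor' (h : FH Om U F) : ∀ K ∈ Om, centralizer {zz K} ⊓ F ≤ normalizer (K : Set G) := by
  intro K hK g hg
  exact h.nor hK hg.2 (mem_centralizer_singleton_iff.mp hg.1)

/-- **exactly three involutions** -/
theorem three (h : FH Om U F) (hA : IsA Om U A) (hv : v ∈ RR Om U A) : ∃ z1 z2 z3 : G, z1 ≠ z2 ∧ z1 ≠ z3 ∧ z2 ≠ z3 ∧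
    ∀ z, (∃ v ∈ RR Om U A, v * v = z) ↔ (z = z1 ∨ z = z2 ∨ z = z3) := by
  have hc := h.cw.toCVW
  obtain ⟨w, hw, hl⟩ := h.cw.rk A hA v hv
  have hne := hc.sq_ne hA hv hw hl
  obtain ⟨u, hu, huu⟩ := h.prod hA hv hw hne
  have hvv1 : v * v ≠ 1 := (ne_one_of_RR hv).2
  have hww1 : w * w ≠ 1 := (ne_one_of_RR hw).2
  refine ⟨v * v, w * w, v * v * (w * w), hne, fun h1 => hww1 (left_eq_mul.mp h1),
    fun h1 => hvv1 (right_eq_mul.mp h1), fun z => ⟨?_, ?_⟩⟩
  · rintro ⟨x, hx, rfl⟩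
    by_cases h1 : x * x = v * v
    · exact Or.inl h1
    by_cases h2 : x * x = w * w
    · exact Or.inr (Or.inl h2)
    right; right
    have val : ∀ x ∈ RR Om U A, x * x ≠ v * v → al Om U v (x * x) = 2 := by
      intro x hx hxx
      have h3 := h.lk hA hv hx (Ne.symm hxx)
      rw [Cit.CV.lk_iff'] at h3
      rw [hc.al_sq hA hv hx.1, h3]
    obtain ⟨p, hp, hpp⟩ := h.prod hA hx hw h2
    have h4 : al Om U v (p * p) = 0 := by
      rw [hpp, hc.al_mul hA hv (A.mul_mem hx.1 hx.1) (A.mul_mem hw.1 hw.1), val x hx h1, val w hw (Ne.symm hne)]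
      decide
    have h5 : p * p = v * v := by
      by_contra h5
      rw [val p hp h5] at h4
      exact absurd h4 (by decide)
    rw [hpp] at h5
    calc x * x = x * x * (w * w) * (w * w)⁻¹ := by group
      _ = v * v * (w * w) := by rw [h5, inv_eq_of_mul_eq_one_left (sq_sq hw)]
  · rintro (rfl | rfl | rfl)
    · exact ⟨v, hv, rfl⟩
    · exact ⟨w, hw, rfl⟩
    · exact ⟨u, hu, huu⟩

end FH

end Cfsg.Agent.Cit.Nil.CV3
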