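import Cfsg.Agent.Cit.Nil.CV3.Pair

/-!
# (CV), section 3: the end (S1309)

* `g2_dead` : G2 bonds;
* `swap_dead` : (3e), `s` moves every component;
* `no_s_of` : no `s = z_N` in `N(A) - A`, given `(T1)` (helper542).
-/

set_option autoImplicit false
set_option linter.style.haveILetI false
set_option linter.unusedSectionVars false

namespace Cfsg.Agent.Cit.Nil.CV3

open Subgroup Cfsg Cit Cit.CV

variable {G : Type*} [Group G] [Finite G]
variable {Om : Set (Subgroup G)} {U : Subgroup G → Subgroup G} {A B K L N : Subgroup G} {a e g s t v w x y : G}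

/-- same component of `Om_A` -/
abbrev Cm (Om : Set (Subgroup G)) (U : Subgroup G → Subgroup G) (A : Subgroup G) (v w : G) : Prop :=
  PW.Cn (RR Om U A) (al Om U) v w

/-- equivariance of `al` -/
theorem al_cj (h : CVW Om U) (hA : IsA Om U A) (hv : v ∈ RR Om U A) (ha : a ∈ A) (g : G) :
    al Om U (g * v * g⁻¹) (g * a * g⁻¹) = al Om U v a := by
  have hv' := RR_conj' h hv g
  obtain ⟨hvA, hv4, K, hK, hvK⟩ := hv
  obtain ⟨y, hy, hyX⟩ := h.exists_y hK
  refine h.al_eq (h.isA_cj hA g) (h.hyp.conj K hK g) (h.vch.conj_mem hK hvK g) (orderOf_conj_four hv4 g) hv'.1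
    (conj_mem_cj hy) (fun hh => hyX ((Tau.conj_mem_XX (h.vch.cj K hK g)).mp hh)) (conj_mem_cj ha) ?_
  have h1 := h.al_spec hA hK hvK hv4 hvA hy hyX ha
  calc g * y * g⁻¹ * (g * a * g⁻¹) * (g * y * g⁻¹)⁻¹ = g * (y * a * y⁻¹) * g⁻¹ := by group
    _ = g * a * g⁻¹ * (g * pw v (-al Om U v a) * g⁻¹) := by rw [h1]; group
    _ = g * a * g⁻¹ * pw (g * v * g⁻¹) (-al Om U v a) := by rw [conj_pw]

theorem Cm_cj (h : CVW Om U) (hA : IsA Om U A) (g : G) (hc : Cm Om U A v w) :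
    Cm Om U (cj g A) (g * v * g⁻¹) (g * w * g⁻¹) := by
  induction hc with
  | refl => exact PW.Cn.refl _
  | tail _ hb ih =>
    refine ih.trans (Relation.ReflTransGen.single ⟨RR_conj' h hb.1 g, RR_conj' h hb.2.1 g, ?_⟩)
    rw [al_cj h hA hb.1 hb.2.1.1]
    exact hb.2.2

theorem sq_conj {g v : G} : (g * v * g⁻¹) * (g * v * g⁻¹) = g * (v * v) * g⁻¹ := by group

/-- `g ∈ N(A)` fixing `z_v` fixes the component of `v` -/
theorem Cm_of_fix (h : CW Om U) (hA : IsA Om U A) (hg : g ∈ normalizer (A : Set G))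
    (hv : v ∈ RR Om U A) (hf : g * (v * v) * g⁻¹ = v * v) : Cm Om U A v (g * v * g⁻¹) :=
  (pw_of h.toCVW hA).cn_of_twin (rk_of h hA) hv (h.RR_conj hg hv) (by rw [sq_conj, hf])

theorem conj_conj (hg : g * g = 1) (x : G) : g * (g * x * g⁻¹) * g⁻¹ = x := by
  calc g * (g * x * g⁻¹) * g⁻¹ = (g * g) * x * (g * g)⁻¹ := by group
    _ = x := by rw [hg]; group

section G2

variable (h : CW Om U) (hA : IsA Om U A) (hv : v ∈ RR Om U A) (hw : w ∈ RR Om U A)
  (h1 : al Om U v w = 1) (h2 : al Om U w v = -1)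
include h hA hv hw h1 h2

theorem twin_sq : (v * (w * w)) * (v * (w * w)) = v * v := by
  have hc := h.comm hA (A.mul_mem hw.1 hw.1) hv.1
  calc v * (w * w) * (v * (w * w)) = v * ((w * w) * v) * (w * w) := by group
    _ = v * (v * (w * w)) * (w * w) := by rw [hc]
    _ = v * v * (w * w * (w * w)) := by group
    _ = v * v := by rw [sq_sq hw, mul_one]

/-- in a G2 component a good involution normalising it fixes the `z`'s -/
theorem g2_fix (hg : g ∈ normalizer (A : Set G)) (hg2 : g * g = 1)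
    (hd : PW.Gd (RR Om U A) (al Om U) g) (hc : Cm Om U A v (g * v * g⁻¹)) :
    g * (v * v) * g⁻¹ = v * v := by
  rw [← sq_conj]
  rcases (pw_of h.toCVW hA).gb_good hv hw h1 h2 hg hg2 hd hc with h3 | h3
  · rw [h3, twin_sq h hA hv hw h1 h2]
  · rw [h3, ← mul_inv_rev, twin_sq h hA hv hw h1 h2]
    have h4 : v * v * (v * v) = 1 := sq_sq hv
    exact inv_eq_of_mul_eq_one_left h4

theorem twin_ne : v * (w * w) ≠ v ∧ v * (w * w) ≠ v⁻¹ := by
  constructor
  · intro h3
    exact (ne_one_of_RR hw).2 (mul_eq_left.mp h3)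
  · intro h3
    have h4 : v * v * (w * w) = 1 := by
      calc v * v * (w * w) = v * (v * (w * w)) := by group
        _ = 1 := by rw [h3, mul_inv_cancel]
    have h5 : al Om U w (v * v * (w * w)) = 0 := by rw [h4, h.al_one hA hw]
    rw [h.al_mul hA hw (A.mul_mem hv.1 hv.1) (A.mul_mem hw.1 hw.1), h.al_mul hA hw hv.1 hv.1,
      h.al_mul hA hw hw.1 hw.1, h2, h.al_self hA hw] at h5
    exact absurd h5 (by decide)

end G2

/-- **G2 bonds are dead** -/
theorem g2_dead (h : CW Om U) (hA : IsA Om U A)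
    (hG : ∀ v ∈ RR Om U A, ∃ w ∈ RR Om U A, al Om U v w = 1 ∧ al Om U w v = -1)
    (hN : N ∈ Om) (hs : zz N ∈ normalizer (A : Set G)) (hsA : zz N ∉ A) (hv : v ∈ RR Om U A)
    (hc : Cm Om U A v (zz N * v * (zz N)⁻¹)) : False := by
  obtain ⟨w, hw, h1, h2⟩ := hG v hv
  have hP := pw_of h.toCVW hA
  have hs2 : zz N * zz N = 1 := h.hyp.zz_mul hN
  have hgood := good h hA hN hs hsA
  have hfix := g2_fix h hA hv hw h1 h2 hs hs2 hgood hc
  obtain ⟨B, hB, hAB, n, hn, hnN, hnn⟩ := exists_B h.toCVW hN hsA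
  obtain ⟨K, hK, hvK, hvv⟩ := exists_zz h.toCVW hv
  have hsB : zz N ∈ B := hnn ▸ B.mul_mem hn.1 hn.1
  -- `e = v²`
  have he2 : zz K * zz K = 1 := h.hyp.zz_mul hK
  have hcomm : zz K * zz N = zz N * zz K := by
    rw [← hvv]; exact (mul_inv_eq_iff_eq_mul.mp hfix).symm
  have heB : zz K ∈ normalizer (B : Set G) := by
    refine h.c1 B hB (zz N) hsB hs2 (h.hyp.zz_ne hN) ?_
    rw [mem_centralizer_singleton_iff]; exact hcomm
  have heB' : zz K ∉ B := by rw [← hvv]; exact zz_not_mem h hB hA (Ne.symm hAB) hv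
  have hgoodB := good h hB hK heB heB'
  have hPB := pw_of h.toCVW hB
  -- the G2 bond at `n`
  have hGB : ∀ v ∈ RR Om U B, ∃ w ∈ RR Om U B, al Om U v w = 1 ∧ al Om U w v = -1 := by
    rcases al_or h hB with h3 | h3
    · exfalso
      obtain ⟨g, rfl⟩ := CVW.isA_conj hA h.toCVW hB
      have h4 := h3 _ (RR_conj' h.toCVW hv g) _ (RR_conj' h.toCVW hw g)
      rw [al_cj h.toCVW hA hv hw.1, al_cj h.toCVW hA hw hv.1, h1, h2] at h4
      exact absurd h4 (by decide)
    · exact h3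
  obtain ⟨n', hn', k1, k2⟩ := hGB n hn
  -- `e` fixes `z_n = s`, hence also `z_{n'}`
  have hcn : Cm Om U B n (zz K * n * (zz K)⁻¹) := by
    refine Cm_of_fix h hB heB hn ?_
    rw [hnn, hcomm, mul_inv_cancel_right]
  have hcnn' : Cm Om U B n n' := Relation.ReflTransGen.single ⟨hn, hn', by rw [k1]; decide⟩
  have hcn' : Cm Om U B n' (zz K * n' * (zz K)⁻¹) :=
    ((PW.Cn.symm hPB hcnn').trans hcn).trans (hcnn'.conj hPB heB)
  have hni := CVW.RR_inv hn
  have fn' : zz K * (n' * n') * (zz K)⁻¹ = n' * n' := by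
    refine g2_fix h hB hn' hni ?_ ?_ heB he2 hgoodB hcn'
    · rw [h.al_inv hB hn' hn.1, k2, neg_neg]
    · rw [h.al_neg hB hn hn'.1, k1]
  have fc' : (n' * n') * zz K = zz K * (n' * n') := (mul_inv_eq_iff_eq_mul.mp fn').symm
  -- `s' = n'²`, `s'' = (n n')² = s s'`
  obtain ⟨N', hN', hn'N, hn'n⟩ := exists_zz h.toCVW hn'
  have hnn'R : n * n' ∈ RR Om U B := by
    have h3 := hPB.sub n'⁻¹ (CVW.RR_inv hn') n hn (by rw [hPB.f_inv n' hn' n hn.1, k2, neg_neg])
    rwa [inv_inv] at h3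
  obtain ⟨M, hM, hnM, hnn'⟩ := exists_zz h.toCVW hnn'R
  have hzM : zz M = zz N * zz N' := by
    rw [← hnn', ← hnn, ← hn'n]
    have := h.comm hB hn'.1 hn.1
    calc n * n' * (n * n') = n * (n' * n) * n' := by group
      _ = n * (n * n') * n' := by rw [this]
      _ = n * n * (n' * n') := by group
  have hs'c : zz N' * zz K = zz K * zz N' := by rw [← hn'n]; exact fc'
  have cA : ∀ z : G, z * zz K = zz K * z → z ∈ normalizer (A : Set G) := by
    intro z hz
    refine h.c1 A hA (zz K) (hvv ▸ A.mul_mem hv.1 hv.1) he2 (h.hyp.zz_ne hK) ?_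
    rw [mem_centralizer_singleton_iff]; exact hz
  have hs' : zz N' ∈ normalizer (A : Set G) := cA _ hs'c
  have hs'A : zz N' ∉ A := by rw [← hn'n]; exact zz_not_mem h hA hB hAB hn'
  have hsM : zz M ∈ normalizer (A : Set G) := by rw [hzM]; exact mul_mem hs hs'
  have hsMA : zz M ∉ A := by rw [← hnn']; exact zz_not_mem h hA hB hAB hnn'R
  have fixv : ∀ z : G, z * zz K = zz K * z → z * (v * v) * z⁻¹ = v * v := by
    intro z hz
    rw [hvv, hz, mul_inv_cancel_right]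
  have hMc : zz M * zz K = zz K * zz M := by
    rw [hzM, mul_assoc, hs'c, ← mul_assoc, ← hcomm, mul_assoc]
  have a1 := hP.gb_good hv hw h1 h2 hs hs2 hgood hc
  have a2 := hP.gb_good hv hw h1 h2 hs' (h.hyp.zz_mul hN') (good h hA hN' hs' hs'A)
    (Cm_of_fix h hA hs' hv (fixv _ hs'c))
  have a3 := hP.gb_good hv hw h1 h2 hsM (h.hyp.zz_mul hM) (good h hA hM hsM hsMA)
    (Cm_of_fix h hA hsM hv (fixv _ hMc))
  -- `s'' v s''⁻¹ = v^{±1}`
  have b1 : zz N * (v * (w * w)) * (zz N)⁻¹ = v ∨ zz N * (v * (w * w)) * (zz N)⁻¹ = v⁻¹ := by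
    rcases a1 with a1 | a1
    · left; rw [← a1]; exact conj_conj hs2 v
    · right
      have h3 : v * (w * w) = (zz N * v * (zz N)⁻¹)⁻¹ := by rw [a1, inv_inv]
      have h4 := conj_conj hs2 v
      have h5 : ∀ y : G, zz N * y⁻¹ * (zz N)⁻¹ = (zz N * y * (zz N)⁻¹)⁻¹ := fun y => by group
      rw [h3, h5, h4]
  have b2 : zz M * v * (zz M)⁻¹ = v ∨ zz M * v * (zz M)⁻¹ = v⁻¹ := by
    have h3 : zz M * v * (zz M)⁻¹ = zz N * (zz N' * v * (zz N')⁻¹) * (zz N)⁻¹ := by
      rw [hzM]; group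
    rw [h3]
    rcases a2 with a2 | a2 <;> rw [a2]
    · exact b1
    · have h4 : zz N * (v * (w * w))⁻¹ * (zz N)⁻¹ = (zz N * (v * (w * w)) * (zz N)⁻¹)⁻¹ := by group
      rw [h4]
      rcases b1 with b1 | b1 <;> rw [b1]
      · exact Or.inr rfl
      · left; rw [inv_inv]
  obtain ⟨c1, c2⟩ := twin_ne h hA hv hw h1 h2
  rcases a3 with a3 | a3 <;> rcases b2 with b2 | b2 <;> rw [a3] at b2
  · exact c1 b2
  · exact c2 b2
  · exact c2 (inv_eq_iff_eq_inv.mp b2)
  · exact c1 (inv_injective b2)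

/-- **(3e)** `s` moves every component -/
theorem swap_dead (h : CW Om U)
    (hI : ∀ (A : Subgroup G), IsA Om U A → ∀ N ∈ Om, zz N ∈ normalizer (A : Set G) → zz N ∉ A →
      ∀ v ∈ RR Om U A, ¬ Cm Om U A v (zz N * v * (zz N)⁻¹))
    (hA : IsA Om U A) (hN : N ∈ Om) (hs : zz N ∈ normalizer (A : Set G)) (hsA : zz N ∉ A) : False := by
  have hP := pw_of h.toCVW hA
  have hs2 : zz N * zz N = 1 := h.hyp.zz_mul hN
  have hmv := hI A hA N hN hs hsA
  obtain ⟨B, hB, hAB, n, hn, hnN, hnn⟩ := exists_B h.toCVW hN hsA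
  have hPB := pw_of h.toCVW hB
  have hsB : zz N ∈ B := hnn ▸ B.mul_mem hn.1 hn.1
  obtain ⟨x, hx⟩ := CVW.isA_conj hA h.toCVW hB
  -- a root of `A`
  have hxi : ∀ y : G, y ∈ RR Om U B → x⁻¹ * y * x ∈ RR Om U A := by
    intro y hy
    have h3 := RR_conj' h.toCVW hy x⁻¹
    rw [hx, cj_inv_cj, inv_inv] at h3
    exact h3
  set g0 := x⁻¹ * n * x with hg0d
  have hg0 : g0 ∈ RR Om U A := hxi n hn
  have hsg0 := h.RR_conj hs hg0
  -- two components
  have two : ∀ w ∈ RR Om U A, Cm Om U A g0 w ∨ Cm Om U A (zz N * g0 * (zz N)⁻¹) w := by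
    intro w hw
    by_contra hno
    push Not at hno
    have h3 := hP.sixteen (rk_of h hA) hs hs2 hg0 hw (hmv g0 hg0) (hmv w hw) hno.1 hno.2
    have h4 := card_fix_le h hA hN hsA hg0
    have h5 := hP.card_le (al_alt h hA) (rk_of h hA) hg0
    omega
  -- `e`
  set z := g0 * g0 with hz
  have hzA : z ∈ A := A.mul_mem hg0.1 hg0.1
  have hz2 : z * z = 1 := sq_sq hg0
  set z' := zz N * z * (zz N)⁻¹ with hz'
  have hz'A : z' ∈ A := (mem_normalizer_iff.mp hs z).mp hzA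
  have hz'2 : z' * z' = 1 := by rw [hz', sq_conj, hz2]; group
  have hzz' : z * z' = z' * z := h.comm hA hzA hz'A
  have he2 : z * z' * (z * z') = 1 := by
    calc z * z' * (z * z') = z * (z' * z) * z' := by group
      _ = z * (z * z') * z' := by rw [hzz']
      _ = (z * z) * (z' * z') := by group
      _ = 1 := by rw [hz2, hz'2, one_mul]
  have he1 : z * z' ≠ 1 := by
    intro h3
    have h4 : z' = z := by
      have h5 : z' = z⁻¹ := eq_inv_of_mul_eq_one_right h3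
      rw [h5]; exact inv_eq_of_mul_eq_one_left hz2
    exact hmv g0 hg0 (Cm_of_fix h hA hs hg0 h4)
  have hes : zz N * (z * z') * (zz N)⁻¹ = z * z' := by
    calc zz N * (z * z') * (zz N)⁻¹ = (zz N * z * (zz N)⁻¹) * (zz N * z' * (zz N)⁻¹) := by group
      _ = z' * z := by rw [hz', conj_conj hs2]
      _ = z * z' := hzz'.symm
  have heA : z * z' ∈ A := A.mul_mem hzA hz'A
  set e := z * z' with he
  have hesc : e * zz N = zz N * e := (mul_inv_eq_iff_eq_mul.mp hes).symm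
  have heB : e ∈ normalizer (B : Set G) := by
    refine h.c1 B hB (zz N) hsB hs2 (h.hyp.zz_ne hN) ?_
    rw [mem_centralizer_singleton_iff]; exact hesc
  -- components of `B`
  have toA : ∀ {y y' : G}, Cm Om U B y y' → Cm Om U A (x⁻¹ * y * x) (x⁻¹ * y' * x) := by
    intro y y' hy
    have h3 := Cm_cj h.toCVW hB x⁻¹ hy
    rw [hx, cj_inv_cj, inv_inv] at h3
    exact h3
  have toB : ∀ {y y' : G}, Cm Om U A y y' → Cm Om U B (x * y * x⁻¹) (x * y' * x⁻¹) := by
    intro y y' hy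
    have h3 := Cm_cj h.toCVW hA x hy
    rw [← hx] at h3
    exact h3
  have back : ∀ y : G, x * (x⁻¹ * y * x) * x⁻¹ = y := fun y => by group
  set n' := x * (zz N * g0 * (zz N)⁻¹) * x⁻¹ with hn'd
  have hn' : n' ∈ RR Om U B := by
    have h3 := RR_conj' h.toCVW hsg0 x
    rwa [← hx] at h3
  have hnn' : ¬ Cm Om U B n n' := by
    intro h3
    have h4 := toA h3
    have h5 : x⁻¹ * n' * x = zz N * g0 * (zz N)⁻¹ := by rw [hn'd]; group
    rw [h5] at h4
    exact hmv g0 hg0 h4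
  have twoB : ∀ y ∈ RR Om U B, Cm Om U B n y ∨ Cm Om U B n' y := by
    intro y hy
    rcases two _ (hxi y hy) with h3 | h3
    · left
      have h4 := toB h3
      rwa [hg0d, back, back] at h4
    · right
      have h4 := toB h3
      rwa [back] at h4
  -- `e` normalises the component of `n'`
  have hee : ∀ y : G, e * (e * y * e⁻¹) * e⁻¹ = y := conj_conj he2
  have hcn : Cm Om U B n (e * n * e⁻¹) := by
    refine Cm_of_fix h hB heB hn ?_
    rw [hnn, hesc, mul_inv_cancel_right]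
  have hcn' : Cm Om U B n' (e * n' * e⁻¹) := by
    rcases twoB _ (h.RR_conj heB hn') with h3 | h3
    · exfalso
      have h4 := h3.conj hPB heB
      rw [hee] at h4
      exact hnn' (hcn.trans h4)
    · exact h3
  obtain ⟨m, hm, hn'm, hem⟩ := hPB.fix_z (al_alt h hB) heB he2 hn' hcn'
  obtain ⟨N2, hN2, hmN2, hmm⟩ := exists_zz h.toCVW hm
  have hc2 : zz N2 * e = e * zz N2 := by
    rw [← hmm]; exact (mul_inv_eq_iff_eq_mul.mp hem).symm
  have ht : zz N2 ∈ normalizer (A : Set G) := by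
    refine h.c1 A hA e heA he2 he1 ?_
    rw [mem_centralizer_singleton_iff]; exact hc2
  have htA : zz N2 ∉ A := by rw [← hmm]; exact zz_not_mem h hA hB hAB hm
  have htB : zz N2 ∈ B := hmm ▸ B.mul_mem hm.1 hm.1
  -- `b = s s₂`
  have hb1 : zz N * zz N2 ≠ 1 := by
    intro h3
    have h4 : zz N = zz N2 := by
      have h5 := eq_inv_of_mul_eq_one_left h3
      rwa [h.hyp.zz_inv hN2] at h5
    have h5 : Cm Om U B n m := hPB.cn_of_twin (rk_of h hB) hn hm (by rw [hnn, hmm, h4])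
    exact hnn' (h5.trans (PW.Cn.symm hPB hn'm))
  have hb2 : zz N * zz N2 * (zz N * zz N2) = 1 := by
    have h3 := h.comm hB htB hsB
    calc zz N * zz N2 * (zz N * zz N2) = zz N * (zz N2 * zz N) * zz N2 := by group
      _ = zz N * (zz N * zz N2) * zz N2 := by rw [h3]
      _ = (zz N * zz N) * (zz N2 * zz N2) := by group
      _ = 1 := by rw [hs2, h.hyp.zz_mul hN2, one_mul]
  have hbA : zz N * zz N2 ∈ normalizer (A : Set G) := mul_mem hs ht
  have hbB : zz N * zz N2 ∈ B := B.mul_mem hsB htB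
  have hcb : Cm Om U A g0 (zz N * zz N2 * g0 * (zz N * zz N2)⁻¹) := by
    rcases two _ (h.RR_conj ht hg0) with h3 | h3
    · exact absurd h3 (hI A hA N2 hN2 ht htA g0 hg0)
    · have h4 := h3.conj hP hs
      rw [conj_conj hs2] at h4
      have h5 : zz N * (zz N2 * g0 * (zz N2)⁻¹) * (zz N)⁻¹ = zz N * zz N2 * g0 * (zz N * zz N2)⁻¹ := by
        group
      rwa [h5] at h4
  obtain ⟨k, hk, hgk, hbk⟩ := hP.fix_z (al_alt h hA) hbA hb2 hg0 hcb
  -- `u = k²`
  have hu : k * k ∈ normalizer (B : Set G) := by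
    refine h.c1 B hB _ hbB hb2 hb1 ?_
    rw [mem_centralizer_singleton_iff]
    exact (mul_inv_eq_iff_eq_mul.mp hbk).symm
  have h3 := comm_of_norm h hA hB hAB (A.mul_mem hk.1 hk.1) hu hsB hs
  refine hmv k hk (Cm_of_fix h hA hs hk ?_)
  rw [← h3, mul_inv_cancel_right]

/-- **Section 3**: no `s = z_N` in `N(A) - A`, given that `(T1)` is dead (all bonds A2, `s` normalises a component) -/
theorem no_s_of (h : CW Om U)
    (hT : ∀ (A : Subgroup G), IsA Om U A → (∀ v ∈ RR Om U A, ∀ w ∈ RR Om U A, al Om U v w = al Om U w v) →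
      ∀ N ∈ Om, zz N ∈ normalizer (A : Set G) → zz N ∉ A →
      ∀ v ∈ RR Om U A, ¬ Cm Om U A v (zz N * v * (zz N)⁻¹))
    (hA : IsA Om U A) (hN : N ∈ Om) (hs : zz N ∈ normalizer (A : Set G)) : zz N ∈ A := by
  by_contra hsA
  refine swap_dead h ?_ hA hN hs hsA
  intro A hA N hN hs hsA v hv hc
  rcases al_or h hA with h1 | h1
  · exact hT A hA h1 N hN hs hsA v hv hc
  · exact g2_dead h hA h1 hN hs hsA hv hc

end Cfsg.Agent.Cit.Nil.CV3
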