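import Cfsg.Agent.Cit.Nil.CV.Glue
import Cfsg.Agent.Cit.Nil.CV3.End

/-!
# (CV), section 3: no `s = z_N` in `N(A) - A` (S1309)

`no_s` from `no_s_of` and `Glue.dead_T1` (helper542).
-/

set_option autoImplicit false
set_option linter.style.haveILetI false
set_option linter.unusedSectionVars false

namespace Cfsg.Agent.Cit.Nil.CV3

open Subgroup Cfsg Cit Cit.CV CV CV.Glue

variable {G : Type*} [Group G] [Finite G]
variable {Om : Set (Subgroup G)} {U : Subgroup G → Subgroup G} {A B K L N : Subgroup G} {a e g s t v w x y : G}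

/-- the components of the two formulations agree -/
theorem conn_of_Cm (h : CVW Om U) (hA : IsA Om U A) {v w : G} (hv : v ∈ RR Om U A) (hc : Cm Om U A v w) :
    ∃ hw : w ∈ A, RootMod.Conn (rA h hA) (fA h hA) (mk h hA v hv.1) (mk h hA w hw) := by
  induction hc with
  | refl => exact ⟨hv.1, RootMod.Conn.refl _⟩
  | tail _ hb ih =>
    obtain ⟨hw, ih⟩ := ih
    refine ⟨hb.2.1.1, ih.trans (RootMod.Conn.step hb.1 hb.2.1 ?_)⟩
    rw [fA_eq (by exact hb.1)]
    exact hb.2.2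

theorem Cm_of_conn (h : CVW Om U) (hA : IsA Om U A) {v w : AT h hA}
    (hc : RootMod.Conn (rA h hA) (fA h hA) v w) : Cm Om U A (vl v) (vl w) := by
  induction hc with
  | refl => exact PW.Cn.refl _
  | tail _ hb ih =>
    refine ih.trans (Relation.ReflTransGen.single ⟨hb.1, hb.2.1, ?_⟩)
    rw [← fA_eq hb.1]
    exact hb.2.2

/-- the alternative `(T1)`, `(T2)` -/
theorem t1_or_t2 (h : CW Om U) (hA : IsA Om U A)
    (hsym : ∀ v ∈ RR Om U A, ∀ w ∈ RR Om U A, al Om U v w = al Om U w v)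
    (hN : N ∈ Om) (hs : zz N ∈ normalizer (A : Set G)) (hsA : zz N ∉ A) (hv : v ∈ RR Om U A) :
    (∃ g d, RootMod.T1 (rA h.toCVW hA) (fA h.toCVW hA) (cjA h.toCVW hA hs) g d) ∨
      (∃ g d, RootMod.T2 (rA h.toCVW hA) (fA h.toCVW hA) (cjA h.toCVW hA hs) g d) := by
  refine RootMod.main (rm h.toCVW hA hsym) (ez_of hN hs (good h hA hN hs hsA).one) ⟨mk _ hA v hv.1, hv⟩
    (hlk_of (h.rk A hA)) ?_
  intro g hg
  have h1 := card_fix_le h hA hN hsA hg
  have h2 : Nat.card (RootMod.CU (cjA h.toCVW hA hs)) ≤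
      Nat.card {u : G // u ∈ A ∧ u * u = 1 ∧ zz N * u * (zz N)⁻¹ = u} := by
    refine Nat.card_le_card_of_injective (fun u => ⟨vl u.1, vl_mem _, ?_, ?_⟩) ?_
    · have := congrArg vl u.2.1
      rwa [vl_add, vl_zero] at this
    · have := congrArg vl u.2.2
      rwa [vl_cjA] at this
    · intro a b hab
      have h5 := Subtype.ext_iff.mp hab
      exact Subtype.ext (vl_inj h5)
  have h3 : Nat.card {k : G // k ∈ RR Om U A ∧ k * k = vl g * vl g} ≤
      (RootMod.fib (rA h.toCVW hA) (g + g)).ncard := by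
    rw [← Nat.card_coe_set_eq]
    refine Nat.card_le_card_of_injective
      (fun k => ⟨mk h.toCVW hA k.1 k.2.1.1, k.2.1, vl_inj ?_⟩) ?_
    · rw [vl_add, vl_mk, vl_add]; exact k.2.2
    · intro a b hab
      have h4 := congrArg (fun z => vl z.1) hab
      exact Subtype.ext h4
  exact h2.trans (h1.trans h3)

/-- `(T1)` as soon as a component is normalised -/
theorem t1_of (h : CW Om U) (hA : IsA Om U A)
    (hsym : ∀ v ∈ RR Om U A, ∀ w ∈ RR Om U A, al Om U v w = al Om U w v)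
    (hN : N ∈ Om) (hs : zz N ∈ normalizer (A : Set G)) (hsA : zz N ∉ A) (hv : v ∈ RR Om U A)
    (hc : Cm Om U A v (zz N * v * (zz N)⁻¹)) :
    ∃ g d, RootMod.T1 (rA h.toCVW hA) (fA h.toCVW hA) (cjA h.toCVW hA hs) g d := by
  rcases t1_or_t2 h hA hsym hN hs hsA hv with h1 | ⟨g, d, t⟩
  · exact h1
  exfalso
  have hR := rm h.toCVW hA hsym
  have hiv := (ez_of hN hs (good h hA hN hs hsA).one (h := h.toCVW) (hA := hA)).toIv
  obtain ⟨hw, hc⟩ := conn_of_Cm h.toCVW hA hv hc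
  have hvs : mk h.toCVW hA (zz N * v * (zz N)⁻¹) hw = cjA h.toCVW hA hs (mk h.toCVW hA v hv.1) := vl_inj rfl
  rw [hvs] at hc
  have hvR : mk h.toCVW hA v hv.1 ∈ rA h.toCVW hA := hv
  rcases t.all _ hvR with h1 | h1
  · exact t.moved ((h1.trans hc).trans ((h1.map hiv).symm hR))
  · have h2 := h1.map hiv
    rw [hiv.invol] at h2
    exact t.moved ((h2.trans (hc.symm hR)).trans (h1.symm hR))

/-- **no `s = z_N` in `N(A) - A`** -/
theorem no_s (h : CW Om U) (hA : IsA Om U A) (hN : N ∈ Om) (hs : zz N ∈ normalizer (A : Set G)) :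
    zz N ∈ A := by
  refine no_s_of h ?_ hA hN hs
  clear hA hN hs
  intro A hA hsym N hN hs hsA v hv hc
  obtain ⟨g, d, t⟩ := t1_of h hA hsym hN hs hsA hv hc
  have hs2 : zz N * zz N = 1 := h.hyp.zz_mul hN
  obtain ⟨B, hB, hAB, n, hn, hnN, hnn⟩ := exists_B h.toCVW hN hsA
  have hsB : zz N ∈ B := hnn ▸ B.mul_mem hn.1 hn.1
  have hg : vl g ∈ RR Om U A := t.hg
  have hsg : zz N * vl g * (zz N)⁻¹ = (vl g)⁻¹ := by rw [← vl_cjA hs, t.sg, vl_neg]
  obtain ⟨K, hK, hgK, hgg⟩ := exists_zz h.toCVW hg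
  have he2 : zz K * zz K = 1 := h.hyp.zz_mul hK
  have inv2 : ∀ {y : G}, y ∈ RR Om U A → y⁻¹ * y⁻¹ = y * y := fun {y} hy => by
    rw [← mul_inv_rev]; exact inv_eq_of_mul_eq_one_left (sq_sq hy)
  have inv2B : ∀ {y : G}, y ∈ RR Om U B → y⁻¹ * y⁻¹ = y * y := fun {y} hy => by
    rw [← mul_inv_rev]; exact inv_eq_of_mul_eq_one_left (sq_sq hy)
  have hfix : zz N * zz K * (zz N)⁻¹ = zz K := by
    rw [← hgg, ← sq_conj, hsg, inv2 hg]
  have hcomm : zz K * zz N = zz N * zz K := (mul_inv_eq_iff_eq_mul.mp hfix).symm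
  have heB : zz K ∈ normalizer (B : Set G) := by
    refine h.c1 B hB (zz N) hsB hs2 (h.hyp.zz_ne hN) ?_
    rw [mem_centralizer_singleton_iff]; exact hcomm
  have heB' : zz K ∉ B := by rw [← hgg]; exact zz_not_mem h hB hA (Ne.symm hAB) hg
  have hsymB : ∀ v ∈ RR Om U B, ∀ w ∈ RR Om U B, al Om U v w = al Om U w v := by
    obtain ⟨x, hx⟩ := CVW.isA_conj hB h.toCVW hA
    intro v hv w hw
    have h1 := RR_conj' h.toCVW hv x
    have h2 := RR_conj' h.toCVW hw x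
    rw [← hx] at h1 h2
    rw [← al_cj h.toCVW hB hv hw.1 x, ← al_cj h.toCVW hB hw hv.1 x]
    exact hsym _ h1 _ h2
  -- `(T1)` for `e` on `B`
  have hcn : Cm Om U B n (zz K * n * (zz K)⁻¹) := by
    refine Cm_of_fix h hB heB hn ?_
    rw [hnn, hcomm, mul_inv_cancel_right]
  obtain ⟨g', d', t'⟩ := t1_of h hB hsymB hK heB heB' hn hcn
  have hg' : vl g' ∈ RR Om U B := t'.hg
  have hd' : vl d' ∈ RR Om U B := t'.hd
  have h4d := (rm h.toCVW hB hsymB).four t'.hd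
  have h4g := (rm h.toCVW hB hsymB).four t'.hg
  have eg : zz K * vl g' * (zz K)⁻¹ = (vl g')⁻¹ := by rw [← vl_cjA heB, t'.sg, vl_neg]
  have f1 : zz K * (vl g' * vl g') * (zz K)⁻¹ = vl g' * vl g' := by rw [← sq_conj, eg, inv2B hg']
  have f2 : zz K * (vl d' * vl d') * (zz K)⁻¹ = vl d' * vl d' := by
    rw [← vl_add, ← vl_cjA heB]
    congr 1
    rw [map_add, t'.sd]
    have h1 : g' + g' - d' + (g' + g' - d') = ((g' + g') + (g' + g')) + (-d' + -d') := by abel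
    rw [h1, h4g, zero_add, RootMod.neg_two h4d]
  have hne2 : vl g' * vl g' ≠ vl d' * vl d' := by
    intro h1
    have h2 : g' + g' = d' + d' := vl_inj (by rw [vl_add, vl_add, h1])
    have h3 : fA h.toCVW hB g' (g' + g') = fA h.toCVW hB g' (d' + d') := by rw [h2]
    rw [map_add, map_add, t'.gd, (rm h.toCVW hB hsymB).self t'.hg] at h3
    exact absurd h3 (by decide)
  -- the second involution
  obtain ⟨m, hm, hme, hms⟩ : ∃ m ∈ RR Om U B, zz K * (m * m) * (zz K)⁻¹ = m * m ∧ m * m ≠ zz N := by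
    by_cases h1 : vl g' * vl g' = zz N
    · exact ⟨vl d', hd', f2, fun h2 => hne2 (by rw [h1, h2])⟩
    · exact ⟨vl g', hg', f1, h1⟩
  obtain ⟨N2, hN2, hmN2, hmm⟩ := exists_zz h.toCVW hm
  have hzKA : zz K ∈ A := hgg ▸ A.mul_mem hg.1 hg.1
  have hcomm2 : zz N2 * zz K = zz K * zz N2 := by
    rw [← hmm]; exact (mul_inv_eq_iff_eq_mul.mp hme).symm
  have hs2A : zz N2 ∈ normalizer (A : Set G) := by
    refine h.c1 A hA (zz K) hzKA he2 (h.hyp.zz_ne hK) ?_
    rw [mem_centralizer_singleton_iff]; exact hcomm2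
  have hs2nA : zz N2 ∉ A := by rw [← hmm]; exact zz_not_mem h hA hB hAB hm
  have hs2B : zz N2 ∈ B := hmm ▸ B.mul_mem hm.1 hm.1
  have hc2 : Cm Om U A (vl g) (zz N2 * vl g * (zz N2)⁻¹) := by
    refine Cm_of_fix h hA hs2A hg ?_
    rw [hgg, hcomm2, mul_inv_cancel_right]
  obtain ⟨g2, d2, t2⟩ := t1_of h hA hsym hN2 hs2A hs2nA hg hc2
  refine dead_T1 h.toCVW hA hsym hN hN2 hs hs2A hsB hs2B (h.c1 B hB _ hsB hs2 (h.hyp.zz_ne hN)) ?_ ?_ t t2
  · intro b hb hbA
    exact inf_centralizer h hA hB hAB hv hb hbA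
  · intro h1
    exact hms (by rw [hmm, ← h1])

end Cfsg.Agent.Cit.Nil.CV3
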