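import Cfsg.Agent.Cit.Nil.CV3.RootF

/-!
# The world of section 3 of (CV), element-wise (S1309)

`PW A R f` : `A` an abelian subgroup of `G`, `R` the set of generators of the `V_K ≤ A`, `f v a = al_K(a)`.
-/

set_option autoImplicit false
set_option linter.style.haveILetI false
set_option linter.unusedSectionVars false

namespace Cfsg.Agent.Cit.Nil.CV3

open Subgroup

variable {G : Type*} [Group G]

/-- root datum of `A`, element-wise, with the action of `N(A)` -/
structure PW (A : Subgroup G) (R : Set G) (f : G → G → ZMod 4) : Prop where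
  comm : ∀ a ∈ A, ∀ b ∈ A, a * b = b * a
  le : ∀ v ∈ R, v ∈ A
  inv : ∀ v ∈ R, v⁻¹ ∈ R
  f_inv : ∀ v ∈ R, ∀ a ∈ A, f v⁻¹ a = -f v a
  f_mul : ∀ v ∈ R, ∀ a ∈ A, ∀ b ∈ A, f v (a * b) = f v a + f v b
  self : ∀ v ∈ R, f v v = 2
  zero : ∀ v ∈ R, ∀ w ∈ R, f v w = 0 → f w v = 0
  eq_or : ∀ v ∈ R, ∀ w ∈ R, f v w = 2 → w = v ∨ w = v⁻¹
  sub : ∀ v ∈ R, ∀ w ∈ R, f v w = 1 → w * v⁻¹ ∈ R
  f_sub : ∀ v ∈ R, ∀ w ∈ R, f v w = 1 → ∀ a ∈ A, f (w * v⁻¹) a = f w a - f v a * f w v
  four : ∀ v ∈ R, v * v * (v * v) = 1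
  conjR : ∀ g ∈ normalizer (A : Set G), ∀ v ∈ R, g * v * g⁻¹ ∈ R
  iso : ∀ g ∈ normalizer (A : Set G), ∀ v ∈ R, ∀ a ∈ A, f (g * v * g⁻¹) (g * a * g⁻¹) = f v a

namespace PW

variable {A : Subgroup G} {R : Set G} {f : G → G → ZMod 4}

/-- the commutative group structure of `A` -/
@[reducible] def cg (h : PW A R f) : CommGroup A :=
  { (inferInstance : Group A) with mul_comm := fun a b => Subtype.ext (h.comm a a.2 b b.2) }

/-- same component -/
def Cn (R : Set G) (f : G → G → ZMod 4) (v w : G) : Prop :=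
  Relation.ReflTransGen (fun v w => v ∈ R ∧ w ∈ R ∧ f v w ≠ 0) v w

/-- linked -/
def Lk (f : G → G → ZMod 4) (v w : G) : Prop := f v w = 1 ∨ f v w = -1

open Classical in
/-- the functional of `v` -/
noncomputable def fn (h : PW A R f) (v : Additive A) :
    letI := h.cg
    Additive A →+ ZMod 4 :=
  letI := h.cg
  if hv : ((v.toMul : A) : G) ∈ R then
    { toFun := fun a => f (v.toMul : A) (a.toMul : A)
      map_zero' := by
        have h1 := h.f_mul _ hv 1 A.one_mem 1 A.one_mem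
        rw [mul_one] at h1
        have h2 : f (v.toMul : A) 1 = 0 := by simpa using h1
        simpa using h2
      map_add' := fun a b => h.f_mul _ hv _ a.toMul.2 _ b.toMul.2 }
  else 0

theorem fn_apply (h : PW A R f) {v : Additive A} (hv : ((v.toMul : A) : G) ∈ R) (a : Additive A) :
    letI := h.cg
    h.fn v a = f (v.toMul : A) (a.toMul : A) := by
  letI := h.cg
  unfold fn
  rw [dif_pos hv]
  rfl

/-- the root datum of `A` -/
noncomputable def rf (h : PW A R f) :
    letI := h.cg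
    RF (Additive A) :=
  letI := h.cg
  { f := h.fn
    R := {v | ((v.toMul : A) : G) ∈ R}
    neg := fun v hv => h.inv _ hv
    f_neg := fun v hv a => by
      rw [h.fn_apply (v := -v) (h.inv _ hv), h.fn_apply hv]
      exact h.f_inv _ hv _ a.toMul.2
    self := fun v hv => by rw [h.fn_apply hv]; exact h.self _ hv
    zero := fun v hv w hw h1 => by
      rw [h.fn_apply hv] at h1
      rw [h.fn_apply hw]; exact h.zero _ hv _ hw h1
    eq_or := fun v hv w hw h1 => by
      rw [h.fn_apply hv] at h1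
      rcases h.eq_or _ hv _ hw h1 with h2 | h2
      · left; exact congrArg Additive.ofMul (Subtype.ext h2 : w.toMul = v.toMul)
      · right; exact congrArg Additive.ofMul (Subtype.ext h2 : w.toMul = v.toMul⁻¹)
    sub := fun v hv w hw h1 => by
      rw [h.fn_apply hv] at h1
      have := h.sub _ hv _ hw h1
      rw [sub_eq_add_neg]
      exact this
    f_sub := fun v hv w hw h1 a => by
      rw [h.fn_apply hv] at h1
      have h2 := h.sub _ hv _ hw h1
      have h3 : (((w - v).toMul : A) : G) ∈ R := by rw [sub_eq_add_neg]; exact h2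
      rw [h.fn_apply h3, h.fn_apply hv, h.fn_apply hw, h.fn_apply hw]
      have h4 := h.f_sub _ hv _ hw h1 _ a.toMul.2
      rw [← h4]
      have h5 : (((w - v).toMul : A) : G) = (w.toMul : A) * ((v.toMul : A) : G)⁻¹ := by
        rw [sub_eq_add_neg]; rfl
      rw [h5]
    four := fun v hv => congrArg Additive.ofMul (Subtype.ext (h.four _ hv) :
      v.toMul * v.toMul * (v.toMul * v.toMul) = 1) }

/-- conjugation by an element of `N(A)` -/
def cjA (A : Subgroup G) {g : G} (hg : g ∈ normalizer (A : Set G)) : A →* A where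
  toFun a := ⟨g * a * g⁻¹, (mem_normalizer_iff.mp hg a).mp a.2⟩
  map_one' := Subtype.ext (by simp)
  map_mul' a b := Subtype.ext (by simp [mul_assoc])

/-- the isometry of an involution in `N(A)` -/
noncomputable def ifo (h : PW A R f) {g : G} (hg : g ∈ normalizer (A : Set G)) (h2 : g * g = 1) :
    letI := h.cg
    RF.IF h.rf :=
  letI := h.cg
  { s := MonoidHom.toAdditive (cjA A hg)
    sq := fun a => by
      refine congrArg Additive.ofMul (Subtype.ext ?_ : cjA A hg (cjA A hg a.toMul) = a.toMul)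
      change g * (g * (a.toMul : A) * g⁻¹) * g⁻¹ = (a.toMul : A)
      have hi : g⁻¹ = g := inv_eq_of_mul_eq_one_left h2
      rw [hi]
      calc g * (g * ((a.toMul : A) : G) * g) * g = (g * g) * (a.toMul : A) * (g * g) := by group
        _ = (a.toMul : A) := by rw [h2]; group
    mem := fun v hv => h.conjR g hg _ hv
    iso := fun v hv a => by
      have h3 : (((MonoidHom.toAdditive (cjA A hg) v).toMul : A) : G) ∈ R := h.conjR g hg _ hv
      change h.fn _ _ = h.fn _ _
      rw [h.fn_apply h3, h.fn_apply hv]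
      exact h.iso g hg _ hv _ a.toMul.2 }

/-- roots of `A` as elements of `Additive A` -/
def rt (h : PW A R f) {v : G} (hv : v ∈ R) : Additive A := Additive.ofMul ⟨v, h.le v hv⟩

theorem cn_iff (h : PW A R f) {v w : Additive A} :
    letI := h.cg
    h.rf.Conn v w ↔ Cn R f (v.toMul : A) (w.toMul : A) := by
  letI := h.cg
  constructor
  · intro h1
    induction h1 with
    | refl => exact Relation.ReflTransGen.refl
    | tail _ hb ih =>
      refine ih.tail ⟨hb.1, hb.2.1, ?_⟩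
      have := hb.2.2
      change h.fn _ _ ≠ 0 at this
      rwa [h.fn_apply hb.1] at this
  · intro h1
    have key : ∀ x : G, Cn R f (v.toMul : A) x → ∀ hx : x ∈ A,
        h.rf.Conn v (Additive.ofMul (⟨x, hx⟩ : A)) := by
      intro x hx
      induction hx with
      | refl => intro hx; exact Relation.ReflTransGen.refl
      | @tail b c hab hb ih =>
        intro hx
        refine (ih (h.le _ hb.1)).tail ⟨hb.1, hb.2.1, ?_⟩
        change h.fn _ _ ≠ 0
        rw [h.fn_apply (v := Additive.ofMul (⟨b, h.le _ hb.1⟩ : A)) hb.1]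
        exact hb.2.2
    exact key _ h1 (w.toMul : A).2

theorem conn_iff (h : PW A R f) {v w : G} (hv : v ∈ A) (hw : w ∈ A) :
    letI := h.cg
    h.rf.Conn (Additive.ofMul (⟨v, hv⟩ : A)) (Additive.ofMul (⟨w, hw⟩ : A)) ↔ Cn R f v w :=
  h.cn_iff

theorem lk_iff (h : PW A R f) {v w : G} (hv : v ∈ R) (hw : w ∈ A) :
    letI := h.cg
    h.rf.Lk (Additive.ofMul (⟨v, h.le v hv⟩ : A)) (Additive.ofMul (⟨w, hw⟩ : A)) ↔ Lk f v w := by
  letI := h.cg
  change (h.fn _ _ = 1 ∨ h.fn _ _ = -1) ↔ _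
  rw [h.fn_apply (v := Additive.ofMul (⟨v, h.le v hv⟩ : A)) hv]
  rfl

theorem Cn.refl (v : G) : Cn R f v v := Relation.ReflTransGen.refl

theorem Cn.trans {u v w : G} (h1 : Cn R f u v) (h2 : Cn R f v w) : Cn R f u w :=
  Relation.ReflTransGen.trans h1 h2

theorem Cn.mem {v w : G} (hv : v ∈ R) (h1 : Cn R f v w) : w ∈ R := by
  induction h1 with
  | refl => exact hv
  | tail _ hb _ => exact hb.2.1

theorem Cn.symm (h : PW A R f) {v w : G} (h1 : Cn R f v w) : Cn R f w v := by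
  induction h1 with
  | refl => exact Cn.refl _
  | tail _ hb ih =>
    exact Cn.trans (Relation.ReflTransGen.single ⟨hb.2.1, hb.1, fun h0 => hb.2.2 (h.zero _ hb.2.1 _ hb.1 h0)⟩) ih

theorem Cn.conj (h : PW A R f) {g : G} (hg : g ∈ normalizer (A : Set G)) {v w : G}
    (h1 : Cn R f v w) : Cn R f (g * v * g⁻¹) (g * w * g⁻¹) := by
  induction h1 with
  | refl => exact Cn.refl _
  | tail _ hb ih =>
    refine ih.trans (Relation.ReflTransGen.single ⟨h.conjR g hg _ hb.1, h.conjR g hg _ hb.2.1, ?_⟩)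
    rw [h.iso g hg _ hb.1 _ (h.le _ hb.2.1)]
    exact hb.2.2

/-- every root has a neighbour -/
def Rk (R : Set G) (f : G → G → ZMod 4) : Prop := ∀ v ∈ R, ∃ w ∈ R, Lk f v w

theorem rk (h : PW A R f) (hrk : Rk R f) :
    letI := h.cg
    ∀ v ∈ h.rf.R, ∃ w ∈ h.rf.R, h.rf.Lk v w := by
  letI := h.cg
  intro v hv
  obtain ⟨w, hw, h1⟩ := hrk _ hv
  refine ⟨Additive.ofMul (⟨w, h.le w hw⟩ : A), hw, ?_⟩
  exact (h.lk_iff hv (h.le w hw)).mpr h1

theorem cn_of_twin (h : PW A R f) (hrk : Rk R f) {v w : G} (hv : v ∈ R) (hw : w ∈ R)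
    (h2 : v * v = w * w) : Cn R f v w := by
  letI := h.cg
  have h3 := RF.conn_of_twin (D := h.rf) (v := Additive.ofMul (⟨v, h.le v hv⟩ : A))
    (w := Additive.ofMul (⟨w, h.le w hw⟩ : A)) hv hw
    (congrArg Additive.ofMul (Subtype.ext h2 : (⟨v, h.le v hv⟩ : A) * ⟨v, h.le v hv⟩ =
      ⟨w, h.le w hw⟩ * ⟨w, h.le w hw⟩)) (h.rk hrk)
  exact (h.conn_iff _ _).mp h3

/-- all bonds are A2 and the roots generate, or every root has a G2 bond -/
def Al (A : Subgroup G) (R : Set G) (f : G → G → ZMod 4) : Prop :=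
  ((∀ v ∈ R, ∀ w ∈ R, f v w = f w v) ∧ closure R = A) ∨
    ∀ v ∈ R, ∃ w ∈ R, f v w = 1 ∧ f w v = -1

theorem sy (h : PW A R f) (hs : ∀ v ∈ R, ∀ w ∈ R, f v w = f w v) (hc : closure R = A) :
    letI := h.cg
    RF.Sy h.rf := by
  letI := h.cg
  refine ⟨?_, ?_⟩
  · intro v hv w hw
    change h.fn _ _ = h.fn _ _
    rw [h.fn_apply hv, h.fn_apply hw]
    exact hs _ hv _ hw
  · rw [eq_top_iff]
    intro a _
    have key : ∀ x : G, x ∈ closure R → ∀ hx : x ∈ A,
        (Additive.ofMul (⟨x, hx⟩ : A)) ∈ AddSubgroup.closure h.rf.R := by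
      intro x hx
      induction hx using Subgroup.closure_induction with
      | mem x hx => intro _; exact AddSubgroup.subset_closure hx
      | one => intro _; exact AddSubgroup.zero_mem _
      | mul x y hx' hy' hx hy =>
        intro _
        have hxA : x ∈ A := hc ▸ hx'
        have hyA : y ∈ A := hc ▸ hy'
        exact AddSubgroup.add_mem _ (hx hxA) (hy hyA)
      | inv x hx' hx =>
        intro _
        have hxA : x ∈ A := hc ▸ hx'
        exact AddSubgroup.neg_mem _ (hx hxA)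
    have h1 : ((a.toMul : A) : G) ∈ closure R := hc ▸ a.toMul.2
    exact key _ h1 a.toMul.2

theorem gb (h : PW A R f) {v w : G} (hv : v ∈ R) (hw : w ∈ R) (h1 : f v w = 1) (h2 : f w v = -1) :
    letI := h.cg
    RF.GB h.rf (Additive.ofMul (⟨v, h.le v hv⟩ : A)) (Additive.ofMul (⟨w, h.le w hw⟩ : A)) := by
  letI := h.cg
  refine ⟨hv, hw, ?_, ?_⟩
  · change h.fn _ _ = _
    rw [h.fn_apply (v := Additive.ofMul (⟨v, h.le v hv⟩ : A)) hv]
    exact h1
  · change h.fn _ _ = _
    rw [h.fn_apply (v := Additive.ofMul (⟨w, h.le w hw⟩ : A)) hw]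
    exact h2

theorem alt (h : PW A R f) (hal : Al A R f) :
    letI := h.cg
    RF.Alt h.rf := by
  letI := h.cg
  rcases hal with ⟨h1, h2⟩ | h1
  · exact Or.inl (h.sy h1 h2)
  · right
    intro v hv
    obtain ⟨w, hw, h2, h3⟩ := h1 _ hv
    exact ⟨_, h.gb hv hw h2 h3⟩

/-- **(L2')** -/
theorem fix_z (h : PW A R f) (hal : Al A R f) {g : G} (hg : g ∈ normalizer (A : Set G))
    (h2 : g * g = 1) {v : G} (hv : v ∈ R) (hc : Cn R f v (g * v * g⁻¹)) :
    ∃ n ∈ R, Cn R f v n ∧ g * (n * n) * g⁻¹ = n * n := by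
  letI := h.cg
  obtain ⟨n, hn, hvn, h3⟩ := (h.alt hal).fix_z (σ := h.ifo hg h2)
    (v := Additive.ofMul (⟨v, h.le v hv⟩ : A)) hv (h.cn_iff.mpr hc)
  refine ⟨(n.toMul : A), hn, h.cn_iff.mp hvn, ?_⟩
  exact congrArg Subtype.val (congrArg Additive.toMul h3)

/-- at most eight generators over one `z` -/
theorem card_le [Finite G] (h : PW A R f) (hal : Al A R f) (hrk : Rk R f) {v : G} (hv : v ∈ R) :
    Nat.card {k : G // k ∈ R ∧ k * k = v * v} ≤ 8 := by
  letI := h.cg
  have h1 := (h.alt hal).card_le (h.rk hrk) (v := Additive.ofMul (⟨v, h.le v hv⟩ : A)) hv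
  refine le_trans ?_ h1
  let φ : {k : G // k ∈ R ∧ k * k = v * v} → {k : Additive A // k ∈ h.rf.R ∧
      k + k = Additive.ofMul (⟨v, h.le v hv⟩ : A) + Additive.ofMul (⟨v, h.le v hv⟩ : A)} :=
    fun k => ⟨Additive.ofMul (⟨k.1, h.le _ k.2.1⟩ : A), k.2.1,
      congrArg Additive.ofMul (Subtype.ext k.2.2 : (⟨k.1, h.le _ k.2.1⟩ : A) * ⟨k.1, h.le _ k.2.1⟩ =
      ⟨v, h.le v hv⟩ * ⟨v, h.le v hv⟩)⟩
  refine Nat.card_le_card_of_injective φ ?_
  intro a b hab
  have h6 : (φ a).1 = (φ b).1 := congrArg Subtype.val hab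
  have h7 : ((Additive.toMul (φ a).1 : A) : G) = ((Additive.toMul (φ b).1 : A) : G) :=
    congrArg (fun x : Additive A => ((Additive.toMul x : A) : G)) h6
  exact Subtype.ext h7

/-- two moved component pairs give sixteen fixed elements of order two -/
theorem sixteen [Finite G] (h : PW A R f) (hrk : Rk R f) {g : G} (hg : g ∈ normalizer (A : Set G))
    (h2 : g * g = 1) {v w : G} (hv : v ∈ R) (hw : w ∈ R) (h1 : ¬ Cn R f v (g * v * g⁻¹))
    (h2' : ¬ Cn R f w (g * w * g⁻¹)) (h3 : ¬ Cn R f v w) (h4 : ¬ Cn R f (g * v * g⁻¹) w) :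
    16 ≤ Nat.card {u : G // u ∈ A ∧ u * u = 1 ∧ g * u * g⁻¹ = u} := by
  letI := h.cg
  have h5 := RF.sixteen (D := h.rf) (σ := h.ifo hg h2)
    (v := Additive.ofMul (⟨v, h.le v hv⟩ : A)) (w := Additive.ofMul (⟨w, h.le w hw⟩ : A)) hv hw
    (h.rk hrk) (fun h' => h1 (h.cn_iff.mp h')) (fun h' => h2' (h.cn_iff.mp h'))
    (fun h' => h3 (h.cn_iff.mp h')) (fun h' => h4 (h.cn_iff.mp h'))
  refine le_trans h5 ?_
  let φ : {u : Additive A // u + u = 0 ∧ (h.ifo hg h2).s u = u} →
      {u : G // u ∈ A ∧ u * u = 1 ∧ g * u * g⁻¹ = u} :=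
    fun u => ⟨((u.1.toMul : A) : G), u.1.toMul.2,
      congrArg Subtype.val (congrArg Additive.toMul u.2.1),
      congrArg Subtype.val (congrArg Additive.toMul u.2.2)⟩
  refine Nat.card_le_card_of_injective φ ?_
  intro a b hab
  have h6 : (φ a).1 = (φ b).1 := congrArg Subtype.val hab
  change ((a.1.toMul : A) : G) = ((b.1.toMul : A) : G) at h6
  exact Subtype.ext (congrArg Additive.ofMul (Subtype.ext h6 : a.1.toMul = b.1.toMul))

/-- the conditions (s1), (s2), (s3) -/
structure Gd (R : Set G) (f : G → G → ZMod 4) (g : G) : Prop where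
  one : ∀ v ∈ R, g * v * g⁻¹ ≠ v
  three : ∀ v ∈ R, ∀ w ∈ R, g * v * g⁻¹ = v⁻¹ → g * w * g⁻¹ = w⁻¹ → ¬ Lk f v w
  two : ∀ v ∈ R, ¬ Lk f v (g * v * g⁻¹)

theorem good (h : PW A R f) {g : G} (hg : g ∈ normalizer (A : Set G)) (h2 : g * g = 1)
    (hd : Gd R f g) :
    letI := h.cg
    (h.ifo hg h2).Good := by
  letI := h.cg
  refine ⟨?_, ?_, ?_⟩
  · intro v hv h1
    exact hd.one _ hv (congrArg Subtype.val (congrArg Additive.toMul h1))
  · intro v hv w hw h1 h3 h4
    refine hd.three _ hv _ hw (congrArg Subtype.val (congrArg Additive.toMul h1))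
      (congrArg Subtype.val (congrArg Additive.toMul h3)) ?_
    exact (h.lk_iff hv (h.le _ hw)).mp h4
  · intro v hv h1
    exact hd.two _ hv ((h.lk_iff hv (h.le _ (h.conjR g hg _ hv))).mp h1)

/-- **(g3)** in the G2 case a good involution normalising the component maps `v` to its twin, up to sign -/
theorem gb_good (h : PW A R f) {v w : G} (hv : v ∈ R) (hw : w ∈ R) (h1 : f v w = 1)
    (h2 : f w v = -1) {g : G} (hg : g ∈ normalizer (A : Set G)) (hg2 : g * g = 1) (hd : Gd R f g)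
    (hc : Cn R f v (g * v * g⁻¹)) :
    g * v * g⁻¹ = v * (w * w) ∨ g * v * g⁻¹ = (v * (w * w))⁻¹ := by
  letI := h.cg
  rcases (h.gb hv hw h1 h2).good (h.good hg hg2 hd) (h.cn_iff.mpr hc) with h3 | h3
  · exact Or.inl (congrArg Subtype.val (congrArg Additive.toMul h3))
  · exact Or.inr (congrArg Subtype.val (congrArg Additive.toMul h3))

end PW

end Cfsg.Agent.Cit.Nil.CV3
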