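import Cfsg.Agent.Cit.Nil.CV.Root
import Cfsg.Agent.Cit.Nil.CV3.World

/-!
# (CV), section 3: the pair `A`, `B` (S1309)

From `CVW` (helper748) and the outputs of section 2 (`CW`).
-/

set_option autoImplicit false
set_option linter.style.haveILetI false
set_option linter.unusedSectionVars false

namespace Cfsg.Agent.Cit.Nil.CV3

open Subgroup Cfsg Cit Cit.CV

variable {G : Type*} [Group G] [Finite G]

/-- the hypotheses of section 3: one class, the outputs `(c1)`, `(c2)` of section 2, no isolated root -/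
structure CW (Om : Set (Subgroup G)) (U : Subgroup G → Subgroup G) : Prop extends CVW Om U where
  one : ∀ K ∈ Om, ∀ L ∈ Om, ∃ g, L = cj g K
  c1 : ∀ A, IsA Om U A → ∀ e ∈ A, e * e = 1 → e ≠ 1 → centralizer {e} ≤ normalizer (A : Set G)
  c2 : ∀ A B, IsA Om U A → IsA Om U B → A ≠ B → A ⊓ B = ⊥
  rk : ∀ A, IsA Om U A → ∀ v ∈ RR Om U A, ∃ w ∈ RR Om U A, al Om U v w ≠ 0 ∧ al Om U v w ≠ 2

variable {Om : Set (Subgroup G)} {U : Subgroup G → Subgroup G} {A B K L N : Subgroup G} {a e g s t v w x y : G}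

theorem lk_iff' {f : G → G → ZMod 4} : PW.Lk f v w ↔ (f v w ≠ 0 ∧ f v w ≠ 2) := by
  unfold PW.Lk
  generalize f v w = x
  revert x; decide

/-- the root datum of `A` -/
theorem pw_of (h : CVW Om U) (hA : IsA Om U A) : PW A (RR Om U A) (al Om U) where
  comm _ ha _ hb := h.comm hA ha hb
  le _ hv := hv.1
  inv _ hv := CVW.RR_inv hv
  f_inv _ hv _ ha := h.al_neg hA hv ha
  f_mul _ hv _ ha _ hb := h.al_mul hA hv ha hb
  self _ hv := h.al_self hA hv
  zero _ hv _ hw h0 := h.al_zero_symm hA hv hw h0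
  eq_or _ hv _ hw h0 := h.al_two hA hv hw h0
  sub v hv w hw h1 := by
    have h2 := h.rf_mem hA hv hw
    rwa [rf, h1, pw_neg_one hv.2.1] at h2
  f_sub v hv w hw h1 a ha := by
    have h2 : rf Om U v w = w * v⁻¹ := by rw [rf, h1, pw_neg_one hv.2.1]
    have h3 : rf Om U v (rf Om U v a) = a := by
      obtain ⟨K, hK, hvK, y, hy, hyX, hyA, hyy, hrf⟩ := h.exists_root hA hv
      rw [← hrf a ha, ← hrf _ ((mem_normalizer_iff.mp hyA a).mp ha)]
      have h4 : y * (y * a * y⁻¹) * y⁻¹ = (y * y) * a * (y * y)⁻¹ := by group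
      rw [h4, hyy, h.comm hA (A.mul_mem hv.1 hv.1) ha, mul_inv_cancel_right]
    have h4 := h.al_rf hA hv hw (CVW.rf_mem_A hv ha)
    rw [h3, h2, h.al_rf_left hA hv hw ha] at h4
    exact h4
  four v hv := by
    have := pow_orderOf_eq_one v
    rw [hv.2.1] at this
    rw [← this, pow_succ, pow_succ, pow_two]; group
  conjR _ hg _ hv := h.RR_conj hg hv
  iso _ hg _ hv _ ha := h.al_conj hA hg hv ha

theorem rk_of (h : CW Om U) (hA : IsA Om U A) : PW.Rk (RR Om U A) (al Om U) := by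
  intro v hv
  obtain ⟨w, hw, h1⟩ := h.rk A hA v hv
  exact ⟨w, hw, lk_iff'.mpr h1⟩

theorem ne_one_of_RR (hv : v ∈ RR Om U A) : v ≠ 1 ∧ v * v ≠ 1 := by
  have h4 := hv.2.1
  constructor
  · rintro rfl; rw [orderOf_one] at h4; omega
  · intro h1
    have : orderOf v ∣ 2 := orderOf_dvd_of_pow_eq_one (by rw [pow_two, h1])
    rw [h4] at this
    omega

/-- an element of order four in some `V_K` normalising `A` lies in `A` -/
theorem mem_of_norm (h : CVW Om U) (hA : IsA Om U A) (hK : K ∈ Om) (hv : v ∈ U K) (hv4 : orderOf v = 4)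
    (hn : v ∈ normalizer (A : Set G)) : v ∈ RR Om U A := by
  have hz : IsPGroup 2 (zpowers v) := by
    rw [← h.U_eq hK hv hv4]
    exact (h.two K hK).to_le (h.vch.le K hK)
  have h2 : IsPGroup 2 (A ⊔ zpowers v : Subgroup G) :=
    (CVW.isA_two hA).to_sup_of_normal_left' hz (by rw [zpowers_le]; exact hn)
  have h3 := h.WW_eq hA h2 le_sup_left
  have h4 : v ∈ RR Om U (A ⊔ zpowers v : Subgroup G) :=
    ⟨(le_sup_right : zpowers v ≤ A ⊔ zpowers v) (mem_zpowers v), hv4, K, hK, hv⟩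
  have h5 : v ∈ WW Om U (A ⊔ zpowers v : Subgroup G) := subset_closure h4
  rw [h3] at h5
  exact ⟨h5, hv4, K, hK, hv⟩

/-- members over an involution of `A` are in `Om_A` -/
theorem ovr (h : CW Om U) (hA : IsA Om U A) (hK : K ∈ Om) (hv : v ∈ U K) (hv4 : orderOf v = 4)
    (hvv : v * v ∈ A) : v ∈ RR Om U A := by
  have h1 : v * v ≠ 1 := by
    intro h1
    have : orderOf v ∣ 2 := orderOf_dvd_of_pow_eq_one (by rw [pow_two, h1])
    rw [hv4] at this
    omega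
  have h2 : v * v * (v * v) = 1 := by
    have := pow_orderOf_eq_one v
    rw [hv4] at this
    rw [← this, pow_succ, pow_succ, pow_two]; group
  refine mem_of_norm h.toCVW hA hK hv hv4 (h.c1 A hA _ hvv h2 h1 ?_)
  rw [mem_centralizer_singleton_iff]; group

theorem RR_conj' (h : CVW Om U) (hv : v ∈ RR Om U A) (g : G) : g * v * g⁻¹ ∈ RR Om U (cj g A) :=
  (h.RR_cj g).mp hv

theorem eq_of_RR (h : CW Om U) (hA : IsA Om U A) (hB : IsA Om U B) (hv : v ∈ RR Om U A)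
    (hvB : v ∈ RR Om U B) : A = B := by
  by_contra hne
  have h1 : v ∈ A ⊓ B := ⟨hv.1, hvB.1⟩
  rw [h.c2 A B hA hB hne, mem_bot] at h1
  exact (ne_one_of_RR hv).1 h1

/-- an involution of `B ≠ A` centralises no root of `A` -/
theorem free (h : CW Om U) (hA : IsA Om U A) (hB : IsA Om U B) (hAB : A ≠ B) (ht : t ∈ B)
    (ht2 : t * t = 1) (ht1 : t ≠ 1) (hv : v ∈ RR Om U A) : t * v * t⁻¹ ≠ v := by
  intro h1
  apply hAB
  obtain ⟨hvA, hv4, K, hK, hvK⟩ := hv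
  refine eq_of_RR h hA hB ⟨hvA, hv4, K, hK, hvK⟩ (mem_of_norm h.toCVW hB hK hvK hv4 ?_)
  refine h.c1 B hB t ht ht2 ht1 ?_
  rw [mem_centralizer_singleton_iff]
  exact (mul_inv_eq_iff_eq_mul.mp h1).symm

/-- every member occurs in some `A` -/
theorem exists_isA (h : CVW Om U) (hK : K ∈ Om) : ∃ B, IsA Om U B ∧ ∃ n ∈ RR Om U B, n ∈ U K ∧ n * n = zz K := by
  obtain ⟨n, hn, hn4⟩ := h.exists_v hK
  have h1 : IsPGroup 2 (U K) := (h.two K hK).to_le (h.vch.le K hK)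
  obtain ⟨S, hS⟩ := h1.exists_le_sylow
  have h2 : n ∈ RR Om U (S : Subgroup G) := ⟨hS hn, hn4, K, hK, hn⟩
  refine ⟨WW Om U S, ⟨S, rfl⟩, n, ⟨subset_closure h2, hn4, K, hK, hn⟩, hn, h.sq_eq hK hn hn4⟩

/-- the conjugate of `A` containing `z_N` -/
theorem exists_B (h : CVW Om U) (hN : N ∈ Om) (hsA : zz N ∉ A) : ∃ B, IsA Om U B ∧ A ≠ B ∧
    ∃ n ∈ RR Om U B, n ∈ U N ∧ n * n = zz N := by
  obtain ⟨B, hB, n, hn, hnN, hnn⟩ := exists_isA h hN
  refine ⟨B, hB, ?_, n, hn, hnN, hnn⟩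
  rintro rfl
  exact hsA (hnn ▸ A.mul_mem hn.1 hn.1)

theorem zz_not_mem (h : CW Om U) (hA : IsA Om U A) (hB : IsA Om U B) (hAB : A ≠ B) (hv : v ∈ RR Om U B) :
    v * v ∉ A := by
  intro h1
  have h2 : v * v ∈ A ⊓ B := ⟨h1, B.mul_mem hv.1 hv.1⟩
  rw [h.c2 A B hA hB hAB, mem_bot] at h2
  exact (ne_one_of_RR hv).2 h2

theorem exists_zz (h : CVW Om U) (hv : v ∈ RR Om U A) : ∃ K ∈ Om, v ∈ U K ∧ v * v = zz K := by
  obtain ⟨hvA, hv4, K, hK, hvK⟩ := hv
  exact ⟨K, hK, hvK, h.sq_eq hK hvK hv4⟩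

theorem zz_mul_self (h : CVW Om U) (hK : K ∈ Om) : zz K * zz K = 1 := h.hyp.zz_mul hK

theorem sq_sq (hv : v ∈ RR Om U A) : v * v * (v * v) = 1 := by
  have := pow_orderOf_eq_one v
  rw [hv.2.1] at this
  rw [← this, pow_succ, pow_succ, pow_two]; group

/-- `N(A)` is transitive on the lines of roots -/
theorem tr (h : CW Om U) (hA : IsA Om U A) (hv : v ∈ RR Om U A) (hw : w ∈ RR Om U A) :
    ∃ m ∈ normalizer (A : Set G), m * v * m⁻¹ = w ∨ m * v * m⁻¹ = w⁻¹ := by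
  obtain ⟨hvA, hv4, K, hK, hvK⟩ := id hv
  obtain ⟨hwA, hw4, L, hL, hwL⟩ := id hw
  obtain ⟨g, rfl⟩ := h.one K hK L hL
  have h1 := h.vch.conj_mem hK hvK g
  have h2 := h.eq_or_inv hL hwL hw4 h1 (orderOf_conj_four hv4 g)
  refine ⟨g, ?_, h2⟩
  have h3 := RR_conj' h.toCVW hv g
  have h4 : w ∈ RR Om U (cj g A) := by
    rcases h2 with h2 | h2
    · rwa [← h2]
    · rw [← inv_inv w, ← h2]; exact CVW.RR_inv h3
  rw [mem_normalizer_iff_cj]
  exact (eq_of_RR h hA (h.isA_cj hA g) hw h4).symm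

/-- **(s1)-(s3)** for `s = z_N ∈ N(A) - A` -/
theorem good (h : CW Om U) (hA : IsA Om U A) (hN : N ∈ Om) (hs : zz N ∈ normalizer (A : Set G))
    (hsA : zz N ∉ A) : PW.Gd (RR Om U A) (al Om U) (zz N) := by
  have hs2 : zz N * zz N = 1 := h.hyp.zz_mul hN
  have hsi : (zz N)⁻¹ = zz N := h.hyp.zz_inv hN
  have one : ∀ v ∈ RR Om U A, zz N * v * (zz N)⁻¹ ≠ v := by
    obtain ⟨B, hB, hAB, n, hn, hnN, hnn⟩ := exists_B h.toCVW hN hsA
    intro v hv
    exact free h hA hB hAB (hnn ▸ B.mul_mem hn.1 hn.1) hs2 (h.hyp.zz_ne hN) hv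
  refine ⟨one, ?_, ?_⟩
  · intro v hv w hw h1 h2 h3
    rw [lk_iff'] at h3
    exact (h.inverted hA hN hs hv hw h3.1 h3.2 h1).2.1 h2
  · intro v hv h1
    set w := zz N * v * (zz N)⁻¹ with hw
    have hwR : w ∈ RR Om U A := h.RR_conj hs hv
    have hsw : zz N * w * (zz N)⁻¹ = v := by
      rw [hw, hsi]
      calc zz N * (zz N * v * zz N) * zz N = (zz N * zz N) * v * (zz N * zz N) := by group
        _ = v := by rw [hs2]; group
    have hsym : al Om U w v = al Om U v w := by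
      have := h.al_conj hA hs hv hwR.1
      rw [hsw] at this
      exact this
    have hP := pw_of h.toCVW hA
    rcases h1 with h1 | h1
    · -- `u = w v⁻¹` is inverted
      have hu : w * v⁻¹ ∈ RR Om U A := hP.sub v hv w hwR h1
      have hu2 : zz N * (w * v⁻¹) * (zz N)⁻¹ = (w * v⁻¹)⁻¹ := by
        have h3 : zz N * v⁻¹ * (zz N)⁻¹ = w⁻¹ := by rw [hw]; group
        calc zz N * (w * v⁻¹) * (zz N)⁻¹ = (zz N * w * (zz N)⁻¹) * (zz N * v⁻¹ * (zz N)⁻¹) := by group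
          _ = v * w⁻¹ := by rw [hsw, h3]
          _ = (w * v⁻¹)⁻¹ := by group
      have h4 : al Om U (w * v⁻¹) v = -1 := by
        rw [hP.f_sub v hv w hwR h1 v hv.1, hsym, h1, hP.self v hv]; decide
      have h5 := (h.inverted hA hN hs hu hv (by rw [h4]; decide) (by rw [h4]; decide) hu2).2.2.1
      apply h5
      rw [rf, h4, neg_neg, pw_one, ← hw]
      have h6 := h.comm hA hwR.1 (A.inv_mem hv.1)
      rw [h6, mul_inv_cancel_left]
    · -- `u = w v` is fixed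
      have hu : w * v ∈ RR Om U A := by
        have h3 := hP.sub v⁻¹ (CVW.RR_inv hv) w hwR (by rw [hP.f_inv v hv w hwR.1, h1, neg_neg])
        rwa [inv_inv] at h3
      apply one _ hu
      calc zz N * (w * v) * (zz N)⁻¹ = (zz N * w * (zz N)⁻¹) * (zz N * v * (zz N)⁻¹) := by group
        _ = w * v := by rw [hsw, ← hw]; exact h.comm hA hv.1 hwR.1

theorem mem_centralizer_of_conj {x y : G} (hxy : x * y * x⁻¹ = y) : x ∈ centralizer {y} := by
  rw [mem_centralizer_singleton_iff]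
  exact mul_inv_eq_iff_eq_mul.mp hxy

/-- elements of `N_A(B)` and `N_B(A)` commute -/
theorem comm_of_norm (h : CW Om U) (hA : IsA Om U A) (hB : IsA Om U B) (hAB : A ≠ B) {u b : G}
    (hu : u ∈ A) (huB : u ∈ normalizer (B : Set G)) (hb : b ∈ B) (hbA : b ∈ normalizer (A : Set G)) :
    u * b = b * u := by
  have h1 : u * b * u⁻¹ * b⁻¹ ∈ A ⊓ B := by
    constructor
    · have h2 := (mem_normalizer_iff.mp hbA u⁻¹).mp (A.inv_mem hu)
      have h3 := A.mul_mem hu h2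
      have h4 : u * (b * u⁻¹ * b⁻¹) = u * b * u⁻¹ * b⁻¹ := by group
      rwa [h4] at h3
    · exact B.mul_mem ((mem_normalizer_iff.mp huB b).mp hb) (B.inv_mem hb)
  rw [h.c2 A B hA hB hAB, mem_bot, mul_inv_eq_one, mul_inv_eq_iff_eq_mul] at h1
  exact h1

theorem exists_RR (hA : IsA Om U A) (hne : A ≠ ⊥) : ∃ v, v ∈ RR Om U A := by
  by_contra hno
  push Not at hno
  apply hne
  have h1 : closure (RR Om U A) = A := CVW.WW_self hA
  rw [← h1, closure_eq_bot_iff]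
  intro x hx
  exact absurd hx (hno x)

/-- `C_B(A) = 1` -/
theorem inf_centralizer (h : CW Om U) (hA : IsA Om U A) (hB : IsA Om U B) (hAB : A ≠ B)
    (hv : v ∈ RR Om U A) {b : G} (hb : b ∈ B) (hbA : ∀ a ∈ A, b * a = a * b) : b = 1 := by
  by_contra hb1
  have h4 := h.pow_four hB hb
  -- an involution among the powers
  obtain ⟨t, ht, ht2, ht1, htA⟩ : ∃ t ∈ B, t * t = 1 ∧ t ≠ 1 ∧ ∀ a ∈ A, t * a = a * t := by
    by_cases h2 : b * b = 1
    · exact ⟨b, hb, h2, hb1, hbA⟩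
    · refine ⟨b * b, B.mul_mem hb hb, ?_, h2, fun a ha => ?_⟩
      · rw [← h4, pow_succ, pow_succ, pow_two]; group
      · rw [mul_assoc, hbA a ha, ← mul_assoc, hbA a ha, mul_assoc]
  exact free h hA hB hAB ht ht2 ht1 hv (by rw [htA v hv.1, mul_inv_cancel_right])

/-- `C(A) ∩ C(s)` commutes with `N_B(A)` -/
theorem comm_of_fix (h : CW Om U) (hA : IsA Om U A) (hB : IsA Om U B) (hAB : A ≠ B)
    (hv : v ∈ RR Om U A) (hs : s ∈ B) (hs2 : s * s = 1) (hs1 : s ≠ 1) {c b : G}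
    (hcA : ∀ a ∈ A, c * a = a * c) (hcs : c * s = s * c) (hb : b ∈ B) (hbA : b ∈ normalizer (A : Set G)) :
    c * b = b * c := by
  have hcB : c ∈ normalizer (B : Set G) :=
    h.c1 B hB s hs hs2 hs1 (by rw [mem_centralizer_singleton_iff]; exact hcs)
  have h1 : c * b * c⁻¹ * b⁻¹ = 1 := by
    refine inf_centralizer h hA hB hAB hv
      (B.mul_mem ((mem_normalizer_iff.mp hcB b).mp hb) (B.inv_mem hb)) fun a ha => ?_
    have h2 : ∀ a ∈ A, b * c⁻¹ * b⁻¹ * a = a * (b * c⁻¹ * b⁻¹) := by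
      intro a ha
      have h3 : b⁻¹ * a * b ∈ A := (mem_normalizer_iff''.mp hbA a).mp ha
      have h4 := hcA _ h3
      have h5 : c⁻¹ * (b⁻¹ * a * b) = (b⁻¹ * a * b) * c⁻¹ := by
        rw [inv_mul_eq_iff_eq_mul, ← mul_assoc, h4, mul_inv_cancel_right]
      calc b * c⁻¹ * b⁻¹ * a = b * (c⁻¹ * (b⁻¹ * a * b)) * b⁻¹ := by group
        _ = b * ((b⁻¹ * a * b) * c⁻¹) * b⁻¹ := by rw [h5]
        _ = a * (b * c⁻¹ * b⁻¹) := by group
    calc c * b * c⁻¹ * b⁻¹ * a = c * (b * c⁻¹ * b⁻¹ * a) := by group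
      _ = c * (a * (b * c⁻¹ * b⁻¹)) := by rw [h2 a ha]
      _ = (c * a) * (b * c⁻¹ * b⁻¹) := by group
      _ = (a * c) * (b * c⁻¹ * b⁻¹) := by rw [hcA a ha]
      _ = a * (c * b * c⁻¹ * b⁻¹) := by group
  rw [mul_inv_eq_one, mul_inv_eq_iff_eq_mul] at h1
  exact h1

/-- the number of roots over `z` is constant -/
theorem card_over_eq (h : CW Om U) (hA : IsA Om U A) (hB : IsA Om U B) (hv : v ∈ RR Om U A)
    (hw : w ∈ RR Om U B) : Nat.card {k : G // k ∈ RR Om U A ∧ k * k = v * v} =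
      Nat.card {k : G // k ∈ RR Om U B ∧ k * k = w * w} := by
  -- reduce to `B = A` by conjugation
  have key : ∀ {A B : Subgroup G} {v w : G} (g : G), IsA Om U A → IsA Om U B → v ∈ RR Om U A →
      w ∈ RR Om U B → g * v * g⁻¹ * (g * v * g⁻¹) = w * w →
      Nat.card {k : G // k ∈ RR Om U A ∧ k * k = v * v} ≤
      Nat.card {k : G // k ∈ RR Om U B ∧ k * k = w * w} := by
    intro A B v w g hA hB hv hw hgg
    have hmem : ∀ k : G, k ∈ RR Om U A ∧ k * k = v * v →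
        g * k * g⁻¹ ∈ RR Om U B ∧ (g * k * g⁻¹) * (g * k * g⁻¹) = w * w := by
      rintro k ⟨hk, hkk⟩
      have h1 : (g * k * g⁻¹) * (g * k * g⁻¹) = w * w := by
        rw [← hgg]
        calc (g * k * g⁻¹) * (g * k * g⁻¹) = g * (k * k) * g⁻¹ := by group
          _ = g * (v * v) * g⁻¹ := by rw [hkk]
          _ = _ := by group
      have h2 := RR_conj' h.toCVW hk g
      obtain ⟨-, h24, L, hL, hkL⟩ := h2
      exact ⟨ovr h hB hL hkL h24 (by rw [h1]; exact B.mul_mem hw.1 hw.1), h1⟩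
    refine Nat.card_le_card_of_injective
      (fun k : {k : G // k ∈ RR Om U A ∧ k * k = v * v} =>
        (⟨g * k.1 * g⁻¹, hmem k.1 k.2⟩ : {k : G // k ∈ RR Om U B ∧ k * k = w * w})) ?_
    intro a b hab
    have h3 : g * a.1 * g⁻¹ = g * b.1 * g⁻¹ := congrArg Subtype.val hab
    exact Subtype.ext (mul_left_cancel (mul_right_cancel h3))
  obtain ⟨hvA, hv4, K, hK, hvK⟩ := id hv
  obtain ⟨hwB, hw4, L, hL, hwL⟩ := id hw
  obtain ⟨g, rfl⟩ := h.one K hK L hL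
  have h1 := h.vch.conj_mem hK hvK g
  have h2 : g * v * g⁻¹ * (g * v * g⁻¹) = w * w := by
    rw [h.sq_eq hL h1 (orderOf_conj_four hv4 g), h.sq_eq hL hwL hw4]
  refine le_antisymm (key g hA hB hv hw h2) (key g⁻¹ hB hA hw hv ?_)
  rw [inv_inv]
  calc g⁻¹ * w * g * (g⁻¹ * w * g) = g⁻¹ * (w * w) * g := by group
    _ = g⁻¹ * (g * v * g⁻¹ * (g * v * g⁻¹)) * g := by rw [h2]
    _ = v * v := by group

/-- **(3a)** -/
theorem card_fix_le (h : CW Om U) (hA : IsA Om U A) (hN : N ∈ Om) (hsA : zz N ∉ A)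
    (hv : v ∈ RR Om U A) :
    Nat.card {u : G // u ∈ A ∧ u * u = 1 ∧ zz N * u * (zz N)⁻¹ = u} ≤
      Nat.card {k : G // k ∈ RR Om U A ∧ k * k = v * v} := by
  obtain ⟨B, hB, hAB, n, hn, hnN, hnn⟩ := exists_B h.toCVW hN hsA
  rw [card_over_eq h hA hB hv hn]
  have hs2 : zz N * zz N = 1 := h.hyp.zz_mul hN
  have hcm : ∀ u : G, zz N * u * (zz N)⁻¹ = u → u * zz N = zz N * u := fun u hu =>
    (mul_inv_eq_iff_eq_mul.mp hu).symm
  have hmem : ∀ u : G, u ∈ A ∧ u * u = 1 ∧ zz N * u * (zz N)⁻¹ = u →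
      u * n * u⁻¹ ∈ RR Om U B ∧ (u * n * u⁻¹) * (u * n * u⁻¹) = n * n := by
    rintro u ⟨hu, hu2, hus⟩
    have huB : u ∈ normalizer (B : Set G) := by
      refine h.c1 B hB (zz N) (hnn ▸ B.mul_mem hn.1 hn.1) hs2 (h.hyp.zz_ne hN) ?_
      rw [mem_centralizer_singleton_iff]; exact hcm u hus
    refine ⟨h.RR_conj huB hn, ?_⟩
    calc (u * n * u⁻¹) * (u * n * u⁻¹) = u * (n * n) * u⁻¹ := by group
      _ = n * n := by rw [hnn, hcm u hus, mul_inv_cancel_right]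
  refine Nat.card_le_card_of_injective
    (fun u : {u : G // u ∈ A ∧ u * u = 1 ∧ zz N * u * (zz N)⁻¹ = u} =>
      (⟨u.1 * n * u.1⁻¹, hmem u.1 u.2⟩ : {k : G // k ∈ RR Om U B ∧ k * k = n * n})) ?_
  intro a b hab
  have h3 : a.1 * n * a.1⁻¹ = b.1 * n * b.1⁻¹ := congrArg Subtype.val hab
  apply Subtype.ext
  by_contra hne
  -- `t = b⁻¹ a ∈ A` is an involution centralising `n`
  have ht : b.1⁻¹ * a.1 ∈ A := A.mul_mem (A.inv_mem b.2.1) a.2.1
  have hcab := h.comm hA a.2.1 b.2.1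
  have hbi : b.1⁻¹ = b.1 := inv_eq_of_mul_eq_one_left b.2.2.1
  have ht2 : (b.1⁻¹ * a.1) * (b.1⁻¹ * a.1) = 1 := by
    rw [hbi]
    calc b.1 * a.1 * (b.1 * a.1) = b.1 * (a.1 * b.1) * a.1 := by group
      _ = b.1 * (b.1 * a.1) * a.1 := by rw [hcab]
      _ = (b.1 * b.1) * (a.1 * a.1) := by group
      _ = 1 := by rw [a.2.2.1, b.2.2.1, one_mul]
  have ht1 : b.1⁻¹ * a.1 ≠ 1 := by
    intro h4
    exact hne (inv_mul_eq_one.mp h4).symm
  refine free h hB hA (Ne.symm hAB) ht ht2 ht1 hn ?_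
  calc b.1⁻¹ * a.1 * n * (b.1⁻¹ * a.1)⁻¹ = b.1⁻¹ * (a.1 * n * a.1⁻¹) * b.1 := by group
    _ = b.1⁻¹ * (b.1 * n * b.1⁻¹) * b.1 := by rw [h3]
    _ = n := by group

/-- all bonds are A2, or every root has a G2 bond -/
theorem al_or (h : CW Om U) (hA : IsA Om U A) :
    (∀ v ∈ RR Om U A, ∀ w ∈ RR Om U A, al Om U v w = al Om U w v) ∨
      ∀ v ∈ RR Om U A, ∃ w ∈ RR Om U A, al Om U v w = 1 ∧ al Om U w v = -1 := by
  have hP := pw_of h.toCVW hA
  by_cases hs : ∀ v ∈ RR Om U A, ∀ w ∈ RR Om U A, al Om U v w = al Om U w v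
  · exact Or.inl hs
  right
  push Not at hs
  obtain ⟨v, hv, w, hw, hne⟩ := hs
  -- a G2 bond at `v`
  have h0 : al Om U v w ≠ 0 := fun h0 => hne (by rw [h0, hP.zero v hv w hw h0])
  have h2 : al Om U v w ≠ 2 := by
    intro h2
    apply hne
    rw [h2, h.al_two_symm hA hv hw h2]
  have h3 : al Om U w v = -al Om U v w := by
    rcases h.al_odd_symm hA hv hw h0 h2 with h3 | h3
    · exact absurd h3.symm hne
    · exact h3
  have gv : ∃ w ∈ RR Om U A, al Om U v w = 1 ∧ al Om U w v = -1 := by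
    have h4 : al Om U v w = 1 ∨ al Om U v w = -1 := lk_iff'.mpr ⟨h0, h2⟩
    rcases h4 with h4 | h4
    · exact ⟨w, hw, h4, by rw [h3, h4]⟩
    · refine ⟨w⁻¹, CVW.RR_inv hw, ?_, ?_⟩
      · rw [h.al_inv hA hv hw.1, h4, neg_neg]
      · rw [h.al_neg hA hw hv.1, h3, h4, neg_neg]
  obtain ⟨w, hw, g1, g2⟩ := gv
  intro x hx
  obtain ⟨m, hm, h5 | h5⟩ := tr h hA hv hx
  · refine ⟨m * w * m⁻¹, h.RR_conj hm hw, ?_, ?_⟩
    · rw [← h5, h.al_conj hA hm hv hw.1, g1]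
    · rw [← h5, h.al_conj hA hm hw hv.1, g2]
  · have h6 : m * v⁻¹ * m⁻¹ = x := by
      rw [← inv_inv x, ← h5]; group
    refine ⟨m * w⁻¹ * m⁻¹, h.RR_conj hm (CVW.RR_inv hw), ?_, ?_⟩
    · rw [← h6, h.al_conj hA hm (CVW.RR_inv hv) (A.inv_mem hw.1), h.al_neg hA hv (A.inv_mem hw.1),
        h.al_inv hA hv hw.1, g1, neg_neg]
    · rw [← h6, h.al_conj hA hm (CVW.RR_inv hw) (A.inv_mem hv.1), h.al_neg hA hw (A.inv_mem hv.1),
        h.al_inv hA hw hv.1, g2, neg_neg]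

theorem al_alt (h : CW Om U) (hA : IsA Om U A) : PW.Al A (RR Om U A) (al Om U) := by
  rcases al_or h hA with h1 | h1
  · exact Or.inl ⟨h1, CVW.WW_self hA⟩
  · exact Or.inr h1

end Cfsg.Agent.Cit.Nil.CV3
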