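import Mathlib

/-!
# Root data mod 4 and involutive isometries (S1309, (CV), rank at least two)

`RD A` : an abelian group `A` with a symmetric bilinear form to `ZMod 4` and a set `R` of "roots" (generators of the
members of `VV` in `A`).  `Iv D` : an isometry of order at most two.  Elementary text: helper995 on R18 (04:05Z),
replacing section 3 (a)-(e) of blueprints/CIT-6b-CV-rank3-helper599.md.
-/

set_option autoImplicit false

namespace Cfsg.Agent.Cit.Nil.CV3

/-- root data mod 4 -/
structure RD (A : Type*) [AddCommGroup A] where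
  /-- the form -/
  B : A →+ A →+ ZMod 4
  /-- the roots -/
  R : Set A
  symm : ∀ a b, B a b = B b a
  neg : ∀ v ∈ R, -v ∈ R
  self : ∀ v ∈ R, B v v = 2
  eq_or : ∀ v ∈ R, ∀ w ∈ R, B v w = 2 → w = v ∨ w = -v
  add : ∀ v ∈ R, ∀ w ∈ R, B v w = -1 → v + w ∈ R
  four : ∀ v ∈ R, v + v + (v + v) = 0

namespace RD

variable {A : Type*} [AddCommGroup A] (D : RD A)

/-- linked: the value of the form is odd -/
def Lk (v w : A) : Prop := D.B v w = 1 ∨ D.B v w = -1

/-- non-orthogonal roots -/
def Adj (v w : A) : Prop := v ∈ D.R ∧ w ∈ D.R ∧ D.B v w ≠ 0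

/-- same component -/
def Conn (v w : A) : Prop := Relation.ReflTransGen D.Adj v w

variable {D}

theorem z4 (x : ZMod 4) : x = 0 ∨ x = 1 ∨ x = 2 ∨ x = -1 := by
  revert x; decide

theorem Lk.symm {v w : A} (h : D.Lk v w) : D.Lk w v := by
  unfold Lk at h ⊢; rwa [D.symm w v]

theorem Lk.ne {v w : A} (h : D.Lk v w) : D.B v w ≠ 0 := by
  rcases h with h | h <;> rw [h] <;> decide

theorem Lk.two {v w : A} (h : D.Lk v w) : D.B v w + D.B v w = 2 := by
  rcases h with h | h <;> rw [h] <;> decide

theorem Lk.neg_left {v w : A} (h : D.Lk v w) : D.Lk (-v) w := by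
  unfold Lk at h ⊢
  rw [map_neg, AddMonoidHom.neg_apply]
  rcases h with h | h <;> rw [h] <;> decide

theorem Lk.neg_right {v w : A} (h : D.Lk v w) : D.Lk v (-w) := h.symm.neg_left.symm

theorem lk_of_two {v w : A} (h : D.B v w + D.B v w = 2) : D.Lk v w := by
  unfold Lk
  rcases z4 (D.B v w) with h1 | h1 | h1 | h1
  · rw [h1] at h; exact absurd h (by decide)
  · exact Or.inl h1
  · rw [h1] at h; exact absurd h (by decide)
  · exact Or.inr h1

theorem lk_of_odd {v w : A} (h : D.B v w ≠ 0) (h2 : D.B v w ≠ 2) : D.Lk v w := by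
  rcases z4 (D.B v w) with h1 | h1 | h1 | h1
  · exact absurd h1 h
  · exact Or.inl h1
  · exact absurd h1 h2
  · exact Or.inr h1

theorem B_add_left (a b c : A) : D.B (a + b) c = D.B a c + D.B b c := by
  rw [map_add, AddMonoidHom.add_apply]

theorem B_neg_left (a c : A) : D.B (-a) c = -D.B a c := by
  rw [map_neg, AddMonoidHom.neg_apply]

theorem B_sub_left (a b c : A) : D.B (a - b) c = D.B a c - D.B b c := by
  rw [map_sub, AddMonoidHom.sub_apply]

theorem sub_mem {v w : A} (hv : v ∈ D.R) (hw : w ∈ D.R) (h : D.B v w = 1) : v - w ∈ D.R := by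
  rw [sub_eq_add_neg]
  refine D.add v hv _ (D.neg w hw) ?_
  rw [map_neg, h]

theorem ne_of_Lk {v w : A} (hv : v ∈ D.R) (h : D.Lk v w) : w ≠ v ∧ w ≠ -v := by
  constructor
  · rintro rfl
    rcases h with h | h <;> rw [D.self _ hv] at h <;> exact absurd h (by decide)
  · rintro rfl
    unfold Lk at h
    rw [map_neg, D.self _ hv] at h
    rcases h with h | h <;> exact absurd h (by decide)

/-- two non-orthogonal roots are linked or equal up to sign -/
theorem cases_B {v w : A} (hv : v ∈ D.R) (hw : w ∈ D.R) :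
    D.B v w = 0 ∨ D.Lk v w ∨ w = v ∨ w = -v := by
  rcases z4 (D.B v w) with h1 | h1 | h1 | h1
  · exact Or.inl h1
  · exact Or.inr (Or.inl (Or.inl h1))
  · exact Or.inr (Or.inr (D.eq_or v hv w hw h1))
  · exact Or.inr (Or.inl (Or.inr h1))

/-- the sum or the difference of two linked roots -/
theorem exists_comb {v w : A} (hv : v ∈ D.R) (hw : w ∈ D.R) (h : D.Lk v w) :
    ∃ e : A, e ∈ D.R ∧ (e = v + w ∨ e = v - w) := by
  rcases h with h | h
  · exact ⟨v - w, sub_mem hv hw h, Or.inr rfl⟩
  · exact ⟨v + w, D.add v hv w hw h, Or.inl rfl⟩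

theorem conn_refl (v : A) : D.Conn v v := Relation.ReflTransGen.refl

theorem conn_of_adj {v w : A} (h : D.Adj v w) : D.Conn v w := Relation.ReflTransGen.single h

theorem Adj.symm {v w : A} (h : D.Adj v w) : D.Adj w v := ⟨h.2.1, h.1, by rw [D.symm]; exact h.2.2⟩

theorem Conn.trans {u v w : A} (h1 : D.Conn u v) (h2 : D.Conn v w) : D.Conn u w :=
  Relation.ReflTransGen.trans h1 h2

theorem Conn.symm {v w : A} (h : D.Conn v w) : D.Conn w v := by
  induction h with
  | refl => exact conn_refl _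
  | tail _ hb ih => exact (conn_of_adj hb.symm).trans ih

theorem Conn.mem {v w : A} (hv : v ∈ D.R) (h : D.Conn v w) : w ∈ D.R := by
  induction h with
  | refl => exact hv
  | tail _ hb _ => exact hb.2.1

theorem conn_of_lk {v w : A} (hv : v ∈ D.R) (hw : w ∈ D.R) (h : D.Lk v w) : D.Conn v w :=
  conn_of_adj ⟨hv, hw, h.ne⟩

theorem conn_neg {v : A} (hv : v ∈ D.R) : D.Conn v (-v) := by
  refine conn_of_adj ⟨hv, D.neg v hv, ?_⟩
  rw [map_neg, D.self v hv]; decide

theorem orth_of_not_conn {v w : A} (hv : v ∈ D.R) (hw : w ∈ D.R) (h : ¬ D.Conn v w) :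
    D.B v w = 0 := by
  by_contra h0
  exact h (conn_of_adj ⟨hv, hw, h0⟩)

/-- the combination lies in the component -/
theorem conn_comb {v w e : A} (hv : v ∈ D.R) (h : D.Lk v w) (he : e ∈ D.R)
    (hc : e = v + w ∨ e = v - w) : D.Conn v e := by
  refine conn_of_adj ⟨hv, he, ?_⟩
  rcases hc with rfl | rfl
  · rw [map_add, D.self v hv]
    rcases h with h | h <;> rw [h] <;> decide
  · rw [map_sub, D.self v hv]
    rcases h with h | h <;> rw [h] <;> decide

/-- the diameter of a component is at most two -/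
theorem common {v w : A} (hv : v ∈ D.R) (h : D.Conn v w) :
    D.B v w ≠ 0 ∨ ∃ q ∈ D.R, D.Lk q v ∧ D.Lk q w := by
  induction h with
  | refl => left; rw [D.self v hv]; decide
  | @tail b c hab hbc ih =>
    by_cases hvc : D.B v c = 0
    swap
    · exact Or.inl hvc
    right
    have hb : b ∈ D.R := hbc.1
    have hc : c ∈ D.R := hbc.2.1
    -- `b` and `c` are linked or equal up to sign
    rcases cases_B hb hc with h0 | hlk | h1 | h1
    · exact absurd h0 hbc.2.2
    · rcases ih with ih | ⟨q, hq, hqv, hqb⟩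
      · rcases cases_B hv hb with h0 | hvb | h1 | h1
        · exact absurd h0 ih
        · exact ⟨b, hb, hvb.symm, hlk⟩
        · subst h1; exact absurd hvc hlk.ne
        · subst h1
          exfalso
          have := hlk.neg_left
          rw [neg_neg] at this
          exact this.ne hvc
      · by_cases hqc : D.B q c = 0
        · by_cases hvb : D.B v b = 0
          · obtain ⟨e, he, hee⟩ := exists_comb hq hb hqb
            refine ⟨e, he, ?_, ?_⟩
            · have : D.B e v = D.B q v := by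
                rcases hee with rfl | rfl
                · rw [B_add_left, D.symm b v, hvb, add_zero]
                · rw [B_sub_left, D.symm b v, hvb, sub_zero]
              unfold Lk; rw [this]; exact hqv
            · rcases hee with rfl | rfl
              · unfold Lk; rw [B_add_left, hqc, zero_add]; exact hlk
              · have : D.B (q - b) c = D.B (-b) c := by rw [B_sub_left, B_neg_left, hqc, zero_sub]
                unfold Lk; rw [this]; exact hlk.neg_left
          · rcases cases_B hv hb with h0 | hvb' | h1 | h1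
            · exact absurd h0 hvb
            · exact ⟨b, hb, hvb'.symm, hlk⟩
            · subst h1; exact absurd hvc hlk.ne
            · subst h1
              exfalso
              have := hlk.neg_left
              rw [neg_neg] at this
              exact this.ne hvc
        · rcases cases_B hq hc with h0 | hqc' | h1 | h1
          · exact absurd h0 hqc
          · exact ⟨q, hq, hqv, hqc'⟩
          · subst h1; exact absurd hvc hqv.symm.ne
          · subst h1
            exact absurd hvc hqv.symm.neg_right.ne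
    · subst h1
      rcases ih with ih | ih
      · exact absurd hvc ih
      · exact ih
    · subst h1
      rw [map_neg, neg_eq_zero] at hvc
      rcases ih with ih | ⟨q, hq, hqv, hqb⟩
      · exact absurd hvc ih
      · exact ⟨q, hq, hqv, hqb.neg_right⟩

/-! ### Twins -/

theorem double_B {v w : A} (h : v + v = w + w) (u : A) :
    D.B v u + D.B v u = D.B w u + D.B w u := by
  rw [← B_add_left, ← B_add_left, h]

/-- twins have the same neighbours -/
theorem twin_lk {v w u : A} (h : v + v = w + w) (hl : D.Lk v u) : D.Lk w u := by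
  apply lk_of_two
  rw [← double_B h, hl.two]

/-- different twins are orthogonal -/
theorem twin_orth {v w : A} (hv : v ∈ D.R) (hw : w ∈ D.R) (h : v + v = w + w) (h1 : w ≠ v)
    (h2 : w ≠ -v) : D.B v w = 0 := by
  rcases cases_B hv hw with h0 | hl | h0 | h0
  · exact h0
  · exfalso
    have := twin_lk h.symm (hl.symm)
    rcases this with h3 | h3 <;> rw [D.self v hv] at h3 <;> exact absurd h3 (by decide)
  · exact absurd h0 h1
  · exact absurd h0 h2

/-- four twins over `d`: `d + g₁ + g₂ + g₃ + g₄ = -d` -/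
theorem four_twins {d g₁ g₂ g₃ g₄ : A} (hd : d ∈ D.R) (h1 : g₁ ∈ D.R) (h2 : g₂ ∈ D.R) (h3 : g₃ ∈ D.R)
    (h4 : g₄ ∈ D.R) (d1 : D.B d g₁ = -1) (d2 : D.B d g₂ = -1) (d3 : D.B d g₃ = -1)
    (d4 : D.B d g₄ = -1) (o12 : D.B g₁ g₂ = 0) (o13 : D.B g₁ g₃ = 0) (o14 : D.B g₁ g₄ = 0)
    (o23 : D.B g₂ g₃ = 0) (o24 : D.B g₂ g₄ = 0) (o34 : D.B g₃ g₄ = 0) :
    d + g₁ + g₂ + g₃ + g₄ = -d := by
  have m1 : d + g₁ ∈ D.R := D.add _ hd _ h1 d1
  have m2 : d + g₁ + g₂ ∈ D.R := D.add _ m1 _ h2 (by rw [B_add_left, d2, o12, add_zero])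
  have m3 : d + g₁ + g₂ + g₃ ∈ D.R :=
    D.add _ m2 _ h3 (by rw [B_add_left, B_add_left, d3, o13, o23, add_zero, add_zero])
  have m4 : d + g₁ + g₂ + g₃ + g₄ ∈ D.R :=
    D.add _ m3 _ h4 (by rw [B_add_left, B_add_left, B_add_left, d4, o14, o24, o34]; decide)
  have hB : D.B d (d + g₁ + g₂ + g₃ + g₄) = 2 := by
    rw [map_add, map_add, map_add, map_add, D.self d hd, d1, d2, d3, d4]; decide
  rcases D.eq_or d hd _ m4 hB with h | h
  · exfalso
    have h5 : D.B g₁ (g₁ + g₂ + g₃ + g₄) = 0 := by
      have : g₁ + g₂ + g₃ + g₄ = 0 := by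
        have h6 : d + (g₁ + g₂ + g₃ + g₄) = d := by
          rw [← add_assoc, ← add_assoc, ← add_assoc]; exact h
        simpa using h6
      rw [this, map_zero]
    rw [map_add, map_add, map_add, D.self _ h1, o12, o13, o14] at h5
    exact absurd h5 (by decide)
  · exact h

/-- among twins over a neighbour `d`: at most four -/
theorem twin_four {d g₁ g₂ g₃ : A} (hd : d ∈ D.R) (h1 : g₁ ∈ D.R) (h2 : g₂ ∈ D.R) (h3 : g₃ ∈ D.R)
    (d1 : D.B d g₁ = -1) (d2 : D.B d g₂ = -1) (d3 : D.B d g₃ = -1)
    (t2 : g₂ + g₂ = g₁ + g₁) (t3 : g₃ + g₃ = g₁ + g₁) (n12 : g₁ ≠ g₂) (n13 : g₁ ≠ g₃)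
    (n23 : g₂ ≠ g₃) {k : A} (hk : k ∈ D.R) (tk : k + k = g₁ + g₁) (dk : D.B d k = -1) :
    k = g₁ ∨ k = g₂ ∨ k = g₃ ∨ k = -d - d - g₁ - g₂ - g₃ := by
  -- twins with the same value at `d` are not opposite
  have key : ∀ {a b : A}, a ∈ D.R → b ∈ D.R → a + a = b + b → D.B d a = -1 → D.B d b = -1 → a ≠ b →
      D.B a b = 0 := by
    intro a b ha hb hab ea eb hne
    refine twin_orth ha hb hab (Ne.symm hne) ?_
    rintro rfl
    rw [map_neg, ea] at eb
    exact absurd eb (by decide)
  by_cases k1 : k = g₁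
  · exact Or.inl k1
  by_cases k2 : k = g₂
  · exact Or.inr (Or.inl k2)
  by_cases k3 : k = g₃
  · exact Or.inr (Or.inr (Or.inl k3))
  right; right; right
  have h := four_twins hd h1 h2 h3 hk d1 d2 d3 dk (key h1 h2 t2.symm d1 d2 n12)
    (key h1 h3 t3.symm d1 d3 n13) (key h1 hk tk.symm d1 dk (Ne.symm k1))
    (key h2 h3 (t2.trans t3.symm) d2 d3 n23) (key h2 hk (t2.trans tk.symm) d2 dk (Ne.symm k2))
    (key h3 hk (t3.trans tk.symm) d3 dk (Ne.symm k3))
  have h5 : k = (d + g₁ + g₂ + g₃ + k) - d - g₁ - g₂ - g₃ := by abel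
  rw [h5, h]

end RD

/-! ### Isometries of order at most two -/

/-- an isometric involution (or the identity) -/
structure Iv {A : Type*} [AddCommGroup A] (D : RD A) where
  /-- the map -/
  s : A →+ A
  sq : ∀ a, s (s a) = a
  mem : ∀ v ∈ D.R, s v ∈ D.R
  iso : ∀ a b, D.B (s a) (s b) = D.B a b

namespace Iv

open RD

variable {A : Type*} [AddCommGroup A] {D : RD A} (σ : Iv D)

theorem swap (a b : A) : D.B (σ.s a) b = D.B a (σ.s b) := by
  rw [← σ.iso a (σ.s b), σ.sq]

theorem conn {v w : A} (h : D.Conn v w) : D.Conn (σ.s v) (σ.s w) := by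
  induction h with
  | refl => exact conn_refl _
  | tail _ hb ih =>
    exact ih.trans (conn_of_adj ⟨σ.mem _ hb.1, σ.mem _ hb.2.1, by rw [σ.iso]; exact hb.2.2⟩)

/-- **(L2)** an isometric involution normalising a component fixes a root line in it -/
theorem exists_line {v : A} (hv : v ∈ D.R) (hc : D.Conn v (σ.s v)) :
    ∃ w ∈ D.R, D.Conn v w ∧ (σ.s w = w ∨ σ.s w = -w) := by
  by_contra hno
  have hno' : ∀ w ∈ D.R, D.Conn v w → σ.s w ≠ w ∧ σ.s w ≠ -w := by
    intro w hw hvw
    constructor
    · intro h; exact hno ⟨w, hw, hvw, Or.inl h⟩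
    · intro h; exact hno ⟨w, hw, hvw, Or.inr h⟩
  -- every root of the component is orthogonal to its image
  have h0 : ∀ w ∈ D.R, D.Conn v w → D.B w (σ.s w) = 0 := by
    intro w hw hvw
    rcases cases_B hw (σ.mem w hw) with h | h | h | h
    · exact h
    · exfalso
      obtain ⟨e, he, hee⟩ := exists_comb hw (σ.mem w hw) h
      have hve : D.Conn v e := hvw.trans (conn_comb hw h he hee)
      rcases hee with rfl | rfl
      · apply (hno' _ he hve).1
        rw [map_add, σ.sq]; abel
      · apply (hno' _ he hve).2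
        rw [map_sub, σ.sq]; abel
    · exact absurd h (hno' w hw hvw).1
    · exact absurd h (hno' w hw hvw).2
  -- linked roots
  have h1 : ∀ f ∈ D.R, ∀ p ∈ D.R, D.Conn v f → D.Lk f p → D.B f (σ.s p) = 0 := by
    intro f hf p hp hvf hl
    have hvp : D.Conn v p := hvf.trans (conn_of_lk hf hp hl)
    obtain ⟨e, he, hee⟩ := exists_comb hf hp hl
    have hve : D.Conn v e := hvf.trans (conn_comb hf hl he hee)
    have h2 := h0 e he hve
    have h3 := h0 f hf hvf
    have h4 := h0 p hp hvp
    have h5 : D.B p (σ.s f) = D.B f (σ.s p) := by rw [← σ.swap, D.symm]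
    have h6 : D.B f (σ.s p) + D.B f (σ.s p) = 0 := by
      rcases hee with rfl | rfl
      · rw [map_add, map_add, map_add, AddMonoidHom.add_apply, AddMonoidHom.add_apply, h3, h4, h5] at h2
        simpa using h2
      · rw [map_sub, map_sub, map_sub, AddMonoidHom.sub_apply, AddMonoidHom.sub_apply, h3, h4, h5] at h2
        have h7 : -(D.B f (σ.s p) + D.B f (σ.s p)) = 0 := by linear_combination h2
        exact neg_eq_zero.mp h7
    rcases cases_B hf (σ.mem p hp) with h | h | h | h
    · exact h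
    · exfalso
      rcases h with h | h <;> rw [h] at h6 <;> exact absurd h6 (by decide)
    · exfalso
      rw [h, D.symm] at h4
      exact hl.ne h4
    · exfalso
      rw [h, map_neg, neg_eq_zero, D.symm] at h4
      exact hl.ne h4
  -- all roots
  have h2 : ∀ f ∈ D.R, ∀ p ∈ D.R, D.Conn v f → D.Conn f p → D.B f (σ.s p) = 0 := by
    intro f hf p hp hvf hfp
    rcases cases_B hf hp with h | h | h | h
    · rcases common hf hfp with h' | ⟨q, hq, hqf, hqp⟩
      · exact absurd h h'
      · have hvq : D.Conn v q := hvf.trans (conn_of_lk hf hq hqf.symm)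
        obtain ⟨e, he, hee⟩ := exists_comb hq hf hqf
        have hve : D.Conn v e := hvq.trans (conn_comb hq hqf he hee)
        have hep : D.Lk e p := by
          rcases hee with rfl | rfl
          · unfold Lk; rw [B_add_left, h, add_zero]; exact hqp
          · unfold Lk; rw [B_sub_left, h, sub_zero]; exact hqp
        have e1 := h1 e he p hp hve hep
        have e2 := h1 q hq p hp hvq hqp
        rcases hee with rfl | rfl
        · rw [B_add_left, e2, zero_add] at e1; exact e1
        · rw [B_sub_left, e2, zero_sub, neg_eq_zero] at e1; exact e1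
    · exact h1 f hf p hp hvf h
    · rw [h]; exact h0 f hf hvf
    · rw [h, map_neg, map_neg, neg_eq_zero]; exact h0 f hf hvf
  have h3 := h2 (σ.s v) (σ.mem v hv) v hv hc hc.symm
  rw [D.self _ (σ.mem v hv)] at h3
  exact absurd h3 (by decide)

/-! ### The involutions of section 3 -/

/-- the conditions (s1), (s2), (s3) on an involution in `Z ∩ M - A` -/
structure Good : Prop where
  one : ∀ v ∈ D.R, σ.s v ≠ v
  three : ∀ v ∈ D.R, ∀ w ∈ D.R, σ.s v = -v → σ.s w = -w → ¬ D.Lk v w
  two : ∀ v ∈ D.R, ¬ D.Lk v (σ.s v)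

variable {σ}

theorem Good.orth (hσ : σ.Good) {v : A} (hv : v ∈ D.R) : σ.s v = -v ∨ D.B v (σ.s v) = 0 := by
  rcases cases_B hv (σ.mem v hv) with h | h | h | h
  · exact Or.inr h
  · exact absurd h (hσ.two v hv)
  · exact absurd h (hσ.one v hv)
  · exact Or.inl h

/-- an inverted root in an invariant component -/
theorem Good.exists_inv (hσ : σ.Good) {v : A} (hv : v ∈ D.R) (hc : D.Conn v (σ.s v)) :
    ∃ w ∈ D.R, D.Conn v w ∧ σ.s w = -w := by
  obtain ⟨w, hw, hvw, h | h⟩ := σ.exists_line hv hc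
  · exact absurd h (hσ.one w hw)
  · exact ⟨w, hw, hvw, h⟩

/-- the data of (L3): `g` inverted, `d` linked to `g` -/
structure Dat (σ : Iv D) (g d : A) : Prop where
  good : σ.Good
  hg : g ∈ D.R
  hd : d ∈ D.R
  inv : σ.s g = -g
  dg : D.B d g = -1

namespace Dat

variable {g d : A}

theorem gd (h : Dat σ g d) : D.B g d = -1 := by rw [D.symm]; exact h.dg

theorem lk (h : Dat σ g d) : D.Lk d g := Or.inr h.dg

theorem sdg (h : Dat σ g d) : D.B (σ.s d) g = 1 := by
  rw [σ.swap, h.inv, map_neg, h.dg, neg_neg]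

theorem dsd (h : Dat σ g d) : D.B d (σ.s d) = 0 := by
  rcases h.good.orth h.hd with h1 | h1
  · exact absurd h.lk (h.good.three d h.hd g h.hg h1 h.inv)
  · exact h1

/-- the second inverted root linked to `d` -/
def h (σ : Iv D) (g d : A) : A := d + g - σ.s d

theorem mem_h (h : Dat σ g d) : Dat.h σ g d ∈ D.R := by
  refine sub_mem (D.add d h.hd g h.hg h.dg) (σ.mem d h.hd) ?_
  rw [B_add_left, h.dsd, D.symm g, h.sdg, zero_add]

theorem inv_h (h : Dat σ g d) : σ.s (Dat.h σ g d) = -Dat.h σ g d := by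
  unfold Dat.h
  rw [map_sub, map_add, σ.sq, h.inv]; abel

theorem hB (u : A) : D.B (Dat.h σ g d) u = D.B d u + D.B g u - D.B (σ.s d) u := by
  unfold Dat.h
  rw [B_sub_left, B_add_left]

theorem h_g (h : Dat σ g d) : D.B (Dat.h σ g d) g = 0 := by
  rw [hB, h.dg, D.self g h.hg, h.sdg]; decide

theorem h_d (h : Dat σ g d) : D.B (Dat.h σ g d) d = 1 := by
  rw [hB, h.gd, D.self d h.hd, D.symm _ d, h.dsd]; decide

theorem h_ne (h : Dat σ g d) : Dat.h σ g d ≠ g ∧ Dat.h σ g d ≠ -g := by
  constructor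
  · intro h1
    have := h.h_g
    rw [h1, D.self g h.hg] at this
    exact absurd this (by decide)
  · intro h1
    have := h.h_g
    rw [h1, B_neg_left, D.self g h.hg] at this
    exact absurd this (by decide)

/-- `g` and `h` are the only inverted roots linked to `d` -/
theorem only (h : Dat σ g d) {k : A} (hk : k ∈ D.R) (hi : σ.s k = -k) (hl : D.Lk d k) :
    k = g ∨ k = -g ∨ k = Dat.h σ g d ∨ k = -Dat.h σ g d := by
  rcases cases_B h.hg hk with h0 | h1 | h1 | h1
  · rcases cases_B h.mem_h hk with h2 | h2 | h2 | h2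
    · exfalso
      rw [hB, h0, add_zero, σ.swap, hi, map_neg, sub_neg_eq_add, hl.two] at h2
      exact absurd h2 (by decide)
    · exact absurd h2 (h.good.three _ h.mem_h k hk h.inv_h hi)
    · exact Or.inr (Or.inr (Or.inl h2))
    · exact Or.inr (Or.inr (Or.inr h2))
  · exact absurd h1 (h.good.three g h.hg k hk h.inv hi)
  · exact Or.inl h1
  · exact Or.inr (Or.inl h1)

theorem neg_h (h : Dat σ g d) : D.B d (-Dat.h σ g d) = -1 := by
  rw [map_neg, D.symm, h.h_d]

/-- an inverted twin of `g` is `±g` or `±h` -/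
theorem twin_inv (h : Dat σ g d) {k : A} (hk : k ∈ D.R) (hi : σ.s k = -k) (ht : k + k = g + g) :
    k = g ∨ k = -g ∨ k = Dat.h σ g d ∨ k = -Dat.h σ g d :=
  h.only hk hi (twin_lk ht.symm h.lk.symm).symm

end Dat

end Iv

end Cfsg.Agent.Cit.Nil.CV3
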