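import Cfsg.Agent.Cit.Nil.CV3.RootTwo

/-!
# Root data mod 4 without symmetry (S1309, (CV), section 3)

`RF A` : the functionals `f v : A →+ ZMod 4` (`v` a root); `f v w` and `f w v` have the same parity but may have
different signs (G2 bond, helper748 #14842).
-/

set_option autoImplicit false

namespace Cfsg.Agent.Cit.Nil.CV3

/-- root data mod 4, not necessarily symmetric -/
structure RF (A : Type*) [AddCommGroup A] where
  /-- the functionals -/
  f : A → A →+ ZMod 4
  /-- the roots -/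
  R : Set A
  neg : ∀ v ∈ R, -v ∈ R
  f_neg : ∀ v ∈ R, ∀ a, f (-v) a = -f v a
  self : ∀ v ∈ R, f v v = 2
  zero : ∀ v ∈ R, ∀ w ∈ R, f v w = 0 → f w v = 0
  eq_or : ∀ v ∈ R, ∀ w ∈ R, f v w = 2 → w = v ∨ w = -v
  sub : ∀ v ∈ R, ∀ w ∈ R, f v w = 1 → w - v ∈ R
  f_sub : ∀ v ∈ R, ∀ w ∈ R, f v w = 1 → ∀ a, f (w - v) a = f w a - f v a * f w v
  four : ∀ v ∈ R, v + v + (v + v) = 0

namespace RF

variable {A : Type*} [AddCommGroup A] (D : RF A)

/-- linked -/
def Lk (v w : A) : Prop := D.f v w = 1 ∨ D.f v w = -1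

/-- non-orthogonal roots -/
def Adj (v w : A) : Prop := v ∈ D.R ∧ w ∈ D.R ∧ D.f v w ≠ 0

/-- same component -/
def Conn (v w : A) : Prop := Relation.ReflTransGen D.Adj v w

variable {D}

theorem add {v w : A} (hv : v ∈ D.R) (hw : w ∈ D.R) (h : D.f v w = -1) : w + v ∈ D.R := by
  have h1 := D.sub (-v) (D.neg v hv) w hw (by rw [D.f_neg v hv, h, neg_neg])
  rwa [sub_neg_eq_add] at h1

theorem f_add {v w : A} (hv : v ∈ D.R) (hw : w ∈ D.R) (h : D.f v w = -1) (a : A) :
    D.f (w + v) a = D.f w a - D.f v a * D.f w v := by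
  have h1 := D.f_sub (-v) (D.neg v hv) w hw (by rw [D.f_neg v hv, h, neg_neg]) a
  rw [sub_neg_eq_add, D.f_neg v hv, map_neg] at h1
  rw [h1]; ring

theorem f_self_neg {v : A} (hv : v ∈ D.R) : D.f v (-v) = 2 := by
  rw [map_neg, D.self v hv]; decide

theorem Lk.ne {v w : A} (h : D.Lk v w) : D.f v w ≠ 0 := by
  rcases h with h | h <;> rw [h] <;> decide

theorem Lk.two {v w : A} (h : D.Lk v w) : D.f v w + D.f v w = 2 := by
  rcases h with h | h <;> rw [h] <;> decide

theorem lk_of_two {v w : A} (h : D.f v w + D.f v w = 2) : D.Lk v w := by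
  unfold Lk
  rcases RD.z4 (D.f v w) with h1 | h1 | h1 | h1
  · rw [h1] at h; exact absurd h (by decide)
  · exact Or.inl h1
  · rw [h1] at h; exact absurd h (by decide)
  · exact Or.inr h1

theorem cases_f {v w : A} (hv : v ∈ D.R) (hw : w ∈ D.R) :
    D.f v w = 0 ∨ D.Lk v w ∨ w = v ∨ w = -v := by
  rcases RD.z4 (D.f v w) with h1 | h1 | h1 | h1
  · exact Or.inl h1
  · exact Or.inr (Or.inl (Or.inl h1))
  · exact Or.inr (Or.inr (D.eq_or v hv w hw h1))
  · exact Or.inr (Or.inl (Or.inr h1))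

theorem ne_of_lk {v w : A} (hv : v ∈ D.R) (h : D.Lk v w) : w ≠ v ∧ w ≠ -v := by
  constructor
  · rintro rfl
    rcases h with h | h <;> rw [D.self _ hv] at h <;> exact absurd h (by decide)
  · rintro rfl
    unfold Lk at h
    rw [f_self_neg hv] at h
    rcases h with h | h <;> exact absurd h (by decide)

theorem Lk.symm {v w : A} (hv : v ∈ D.R) (hw : w ∈ D.R) (h : D.Lk v w) : D.Lk w v := by
  rcases cases_f hw hv with h1 | h1 | h1 | h1
  · exact absurd (D.zero w hw v hv h1) h.ne
  · exact h1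
  · exact absurd h1.symm (ne_of_lk hv h).1
  · exact absurd (by rw [h1, neg_neg]) (ne_of_lk hv h).2

theorem Lk.neg_right {v w : A} (h : D.Lk v w) : D.Lk v (-w) := by
  unfold Lk at h ⊢
  rw [map_neg]
  rcases h with h | h <;> rw [h] <;> decide

theorem Lk.neg_left {v w : A} (hv : v ∈ D.R) (h : D.Lk v w) : D.Lk (-v) w := by
  unfold Lk at h ⊢
  rw [D.f_neg v hv]
  rcases h with h | h <;> rw [h] <;> decide

theorem conn_refl (v : A) : D.Conn v v := Relation.ReflTransGen.refl

theorem conn_of_adj {v w : A} (h : D.Adj v w) : D.Conn v w := Relation.ReflTransGen.single h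

theorem Adj.symm {v w : A} (h : D.Adj v w) : D.Adj w v :=
  ⟨h.2.1, h.1, fun h0 => h.2.2 (D.zero w h.2.1 v h.1 h0)⟩

theorem Conn.trans {u v w : A} (h1 : D.Conn u v) (h2 : D.Conn v w) : D.Conn u w :=
  Relation.ReflTransGen.trans h1 h2

theorem Conn.symm {v w : A} (h : D.Conn v w) : D.Conn w v := by
  induction h with
  | refl => exact conn_refl _
  | tail _ hb ih => exact (conn_of_adj hb.symm).trans ih

theorem Conn.mem {v w : A} (hv : v ∈ D.R) (h : D.Conn v w) : w ∈ D.R := by
  induction h with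
  | refl => exact hv
  | tail _ hb _ => exact hb.2.1

theorem conn_of_lk {v w : A} (hv : v ∈ D.R) (hw : w ∈ D.R) (h : D.Lk v w) : D.Conn v w :=
  conn_of_adj ⟨hv, hw, h.ne⟩

theorem conn_neg {v : A} (hv : v ∈ D.R) : D.Conn v (-v) := by
  refine conn_of_adj ⟨hv, D.neg v hv, ?_⟩
  rw [f_self_neg hv]; decide

theorem orth_of_not_conn {v w : A} (hv : v ∈ D.R) (hw : w ∈ D.R) (h : ¬ D.Conn v w) :
    D.f v w = 0 := by
  by_contra h0
  exact h (conn_of_adj ⟨hv, hw, h0⟩)

theorem double_f {v w : A} (h : v + v = w + w) (u : A) :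
    D.f u v + D.f u v = D.f u w + D.f u w := by
  rw [← map_add, ← map_add, h]

/-- twins have the same neighbours -/
theorem twin_lk {v w u : A} (h : v + v = w + w) (hl : D.Lk u v) : D.Lk u w := by
  apply lk_of_two
  rw [← double_f h, hl.two]

theorem conn_of_twin {v w : A} (hv : v ∈ D.R) (hw : w ∈ D.R) (h : v + v = w + w)
    (rk : ∀ v ∈ D.R, ∃ w ∈ D.R, D.Lk v w) : D.Conn v w := by
  obtain ⟨u, hu, hl⟩ := rk v hv
  have h1 := hl.symm hv hu
  exact (conn_of_lk hv hu hl).trans (conn_of_lk hu hw (twin_lk h h1))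

/-! ### Isometries -/

/-- an isometric involution (or the identity) -/
structure IF (D : RF A) where
  /-- the map -/
  s : A →+ A
  sq : ∀ a, s (s a) = a
  mem : ∀ v ∈ D.R, s v ∈ D.R
  iso : ∀ v ∈ D.R, ∀ a, D.f (s v) (s a) = D.f v a

namespace IF

variable (σ : IF D)

theorem conn {v w : A} (h : D.Conn v w) : D.Conn (σ.s v) (σ.s w) := by
  induction h with
  | refl => exact conn_refl _
  | tail _ hb ih =>
    exact ih.trans (conn_of_adj ⟨σ.mem _ hb.1, σ.mem _ hb.2.1, by rw [σ.iso _ hb.1]; exact hb.2.2⟩)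

/-- the conditions (s1), (s2), (s3) on an involution in `Z ∩ M - A` -/
structure Good : Prop where
  one : ∀ v ∈ D.R, σ.s v ≠ v
  three : ∀ v ∈ D.R, ∀ w ∈ D.R, σ.s v = -v → σ.s w = -w → ¬ D.Lk v w
  two : ∀ v ∈ D.R, ¬ D.Lk v (σ.s v)

variable {σ}

theorem Good.orth (hσ : σ.Good) {v : A} (hv : v ∈ D.R) : σ.s v = -v ∨ D.f v (σ.s v) = 0 := by
  rcases cases_f hv (σ.mem v hv) with h | h | h | h
  · exact Or.inr h
  · exact absurd h (hσ.two v hv)
  · exact absurd h (hσ.one v hv)
  · exact Or.inl h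

end IF

/-! ### G2 bonds -/

/-- a G2 bond, with signs -/
structure GB (D : RF A) (v w : A) : Prop where
  hv : v ∈ D.R
  hw : w ∈ D.R
  vw : D.f v w = 1
  wv : D.f w v = -1

namespace GB

variable {v w : A}

theorem swap (h : GB D v w) : GB D w (-v) := by
  refine ⟨h.hw, D.neg v h.hv, by rw [map_neg, h.wv, neg_neg], ?_⟩
  rw [D.f_neg v h.hv, h.vw]

theorem m1 (h : GB D v w) : w - v ∈ D.R := D.sub v h.hv w h.hw h.vw

theorem f1 (h : GB D v w) (a : A) : D.f (w - v) a = D.f w a + D.f v a := by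
  rw [D.f_sub v h.hv w h.hw h.vw, h.wv]; ring

theorem m2 (h : GB D v w) : v + w ∈ D.R := add h.hw h.hv h.wv

theorem f2 (h : GB D v w) (a : A) : D.f (v + w) a = D.f v a - D.f w a := by
  rw [f_add h.hw h.hv h.wv, h.vw]; ring

/-- the twin `v + 2w` of `v` -/
theorem mt (h : GB D v w) : v + (w + w) ∈ D.R := by
  have h1 : D.f w (w - v) = -1 := by rw [map_sub, D.self w h.hw, h.wv]; decide
  have h2 := D.neg _ (add h.hw h.m1 h1)
  have h3 : -(w - v + w) = v + (w + w) - (w + w + (w + w)) := by abel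
  rwa [h3, D.four w h.hw, sub_zero] at h2

theorem ft (h : GB D v w) (a : A) : D.f (v + (w + w)) a = -D.f v a + 2 * D.f w a := by
  have h1 : D.f w (w - v) = -1 := by rw [map_sub, D.self w h.hw, h.wv]; decide
  have h2 := D.f_neg _ (add h.hw h.m1 h1) a
  have h3 : -(w - v + w) = v + (w + w) - (w + w + (w + w)) := by abel
  rw [h3, D.four w h.hw, sub_zero, f_add h.hw h.m1 h1, h.f1, h.f1, D.self w h.hw, h.vw] at h2
  rw [h2]
  have : ∀ x y : ZMod 4, -(y + x - y * (2 + 1)) = -x + 2 * y := by decide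
  exact this _ _

theorem tt (h : GB D v w) : (v + (w + w)) + (v + (w + w)) = v + v := by
  have : (v + (w + w)) + (v + (w + w)) = v + v + (w + w + (w + w)) := by abel
  rw [this, D.four w h.hw, add_zero]

/-- the six lines -/
def Six (v w n : A) : Prop :=
  (n = v ∨ n = -v) ∨ (n = v + (w + w) ∨ n = -(v + (w + w))) ∨ (n = w ∨ n = -w) ∨
    (n = w + (v + v) ∨ n = -(w + (v + v))) ∨ (n = v + w ∨ n = -(v + w)) ∨ (n = w - v ∨ n = -(w - v))

theorem mt' (h : GB D v w) : w + (v + v) ∈ D.R := by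
  have h1 := h.swap.mt
  have h2 : w + (-v + -v) = w + (v + v) - (v + v + (v + v)) := by abel
  rwa [h2, D.four v h.hv, sub_zero] at h1

theorem ft' (h : GB D v w) (a : A) : D.f (w + (v + v)) a = -D.f w a + 2 * D.f v a := by
  have h1 := h.swap.ft a
  have h2 : w + (-v + -v) = w + (v + v) - (v + v + (v + v)) := by abel
  rw [h2, D.four v h.hv, sub_zero, D.f_neg v h.hv] at h1
  rw [h1]
  have : ∀ x y : ZMod 4, -y + 2 * -x = -y + 2 * x := by decide
  exact this _ _

theorem six_of (h : GB D v w) {n : A} (hn : n ∈ D.R) (h0 : ¬ (D.f v n = 0 ∧ D.f w n = 0)) :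
    Six v w n := by
  by_contra hno
  unfold Six at hno
  push Not at hno
  obtain ⟨n1, n2, n3, n4, n5, n6⟩ := hno
  apply h0
  have key : ∀ x ∈ D.R, (n ≠ x ∧ n ≠ -x) → D.f x n ≠ 2 := by
    intro x hx hne h2
    rcases D.eq_or x hx n hn h2 with h3 | h3
    · exact hne.1 h3
    · exact hne.2 h3
  have k1 := key v h.hv n1
  have k2 := key _ h.mt n2
  have k3 := key w h.hw n3
  have k4 := key _ h.mt' n4
  have k5 := key _ h.m2 n5
  have k6 := key _ h.m1 n6
  rw [h.ft] at k2
  rw [h.ft'] at k4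
  rw [h.f2] at k5
  rw [h.f1] at k6
  generalize D.f v n = x at *
  generalize D.f w n = y at *
  revert x y; decide

theorem six_conn (h : GB D v w) {n : A} (hc : D.Conn v n) : Six v w n := by
  induction hc with
  | refl => left; left; rfl
  | @tail b c hab hbc ih =>
    apply h.six_of hbc.2.1
    rintro ⟨h1, h2⟩
    apply hbc.2.2
    rcases ih with (h3 | h3) | (h3 | h3) | (h3 | h3) | (h3 | h3) | (h3 | h3) | (h3 | h3) <;> rw [h3]
    · exact h1
    · rw [D.f_neg _ h.hv, h1, neg_zero]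
    · rw [h.ft, h1, h2]; ring
    · rw [D.f_neg _ h.mt, h.ft, h1, h2]; ring
    · exact h2
    · rw [D.f_neg _ h.hw, h2, neg_zero]
    · rw [h.ft', h1, h2]; ring
    · rw [D.f_neg _ h.mt', h.ft', h1, h2]; ring
    · rw [h.f2, h1, h2]; ring
    · rw [D.f_neg _ h.m2, h.f2, h1, h2]; ring
    · rw [h.f1, h1, h2]; ring
    · rw [D.f_neg _ h.m1, h.f1, h1, h2]; ring

/-- the only roots of the component orthogonal to `v` are `±(v + 2w)` -/
theorem orth (h : GB D v w) {n : A} (hc : D.Conn v n) (h0 : D.f v n = 0) :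
    n = v + (w + w) ∨ n = -(v + (w + w)) := by
  rcases h.six_conn hc with (h3 | h3) | (h3 | h3) | (h3 | h3) | (h3 | h3) | (h3 | h3) | (h3 | h3)
  · rw [h3, D.self v h.hv] at h0; exact absurd h0 (by decide)
  · rw [h3, f_self_neg h.hv] at h0; exact absurd h0 (by decide)
  · exact Or.inl h3
  · exact Or.inr h3
  · rw [h3, h.vw] at h0; exact absurd h0 (by decide)
  · rw [h3, map_neg, h.vw] at h0; exact absurd h0 (by decide)
  · rw [h3, map_add, map_add, h.vw, D.self v h.hv] at h0; exact absurd h0 (by decide)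
  · rw [h3, map_neg, map_add, map_add, h.vw, D.self v h.hv] at h0; exact absurd h0 (by decide)
  · rw [h3, map_add, h.vw, D.self v h.hv] at h0; exact absurd h0 (by decide)
  · rw [h3, map_neg, map_add, h.vw, D.self v h.hv] at h0; exact absurd h0 (by decide)
  · rw [h3, map_sub, h.vw, D.self v h.hv] at h0; exact absurd h0 (by decide)
  · rw [h3, map_neg, map_sub, h.vw, D.self v h.hv] at h0; exact absurd h0 (by decide)

/-- **(g3)** a good involution normalising a G2 component maps `v` to plus or minus its twin -/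
theorem good (h : GB D v w) {σ : IF D} (hσ : σ.Good) (hc : D.Conn v (σ.s v)) :
    σ.s v = v + (w + w) ∨ σ.s v = -(v + (w + w)) := by
  rcases hσ.orth h.hv with hi | h0
  swap
  · exact h.orth hc h0
  exfalso
  have hlk : D.Lk v w := Or.inl h.vw
  have hcw : D.Conn w (σ.s w) := by
    have h1 := conn_of_lk h.hv h.hw hlk
    exact (h1.symm.trans hc).trans (σ.conn h1)
  rcases hσ.orth h.hw with hi' | h0'
  · exact hσ.three v h.hv w h.hw hi hi' hlk
  have h5 := h.swap.orth hcw h0'
  have h6 : w + (-v + -v) = w + (v + v) - (v + v + (v + v)) := by abel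
  rw [h6, D.four v h.hv, sub_zero] at h5
  have i1 := σ.iso w h.hw v
  have i2 := σ.iso v h.hv w
  rw [h.wv, hi] at i1
  rw [h.vw, hi, D.f_neg v h.hv] at i2
  rcases h5 with h5 | h5
  · rw [h5, map_add, map_add, h.vw, D.self v h.hv] at i2
    exact absurd i2 (by decide)
  · rw [h5, D.f_neg _ h.mt', h.ft', map_neg, map_neg, h.wv, D.self v h.hv] at i1
    exact absurd i1 (by decide)

/-- an isometric involution normalising a G2 component fixes one of its `z`'s -/
theorem fix_z (h : GB D v w) {σ : IF D} (hc : D.Conn v (σ.s v)) :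
    ∃ n ∈ D.R, D.Conn v n ∧ σ.s (n + n) = n + n := by
  have h4v := D.four v h.hv
  have h4w := D.four w h.hw
  have hlk : D.Lk v w := Or.inl h.vw
  have c1 := conn_of_lk h.hv h.hw hlk
  have c2 : D.Conn v (v + w) := by
    refine conn_of_adj ⟨h.hv, h.m2, ?_⟩
    rw [map_add, D.self v h.hv, h.vw]; decide
  have nv : -(v + v) = v + v := by
    have : -(v + v) = v + v - (v + v + (v + v)) := by abel
    rw [this, h4v, sub_zero]
  have nw : -(w + w) = w + w := by
    have : -(w + w) = w + w - (w + w + (w + w)) := by abel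
    rw [this, h4w, sub_zero]
  have nvw : v + w + (v + w) = v + v + (w + w) := by abel
  have dz : σ.s (v + v) = v + v ∨ σ.s (v + v) = w + w ∨ σ.s (v + v) = v + v + (w + w) := by
    rw [map_add]
    rcases h.six_conn hc with (h3 | h3) | (h3 | h3) | (h3 | h3) | (h3 | h3) | (h3 | h3) | (h3 | h3) <;> rw [h3]
    · exact Or.inl rfl
    · left; rw [← nv]; abel
    · left; exact h.tt
    · left
      have : -(v + (w + w)) + -(v + (w + w)) = -(v + (w + w) + (v + (w + w))) := by abel
      rw [this, h.tt, nv]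
    · exact Or.inr (Or.inl rfl)
    · right; left; rw [← nw]; abel
    · right; left
      have : w + (v + v) + (w + (v + v)) = w + w + (v + v + (v + v)) := by abel
      rw [this, h4v, add_zero]
    · right; left
      have : -(w + (v + v)) + -(w + (v + v)) = -(w + w) - (v + v + (v + v)) := by abel
      rw [this, h4v, sub_zero, nw]
    · right; right; exact nvw
    · right; right
      have : -(v + w) + -(v + w) = -(v + v) + -(w + w) := by abel
      rw [this, nv, nw]
    · right; right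
      have : w - v + (w - v) = -(v + v) + (w + w) := by abel
      rw [this, nv]
    · right; right
      have : -(w - v) + -(w - v) = v + v + -(w + w) := by abel
      rw [this, nw]
  rcases dz with h1 | h1 | h1
  · exact ⟨v, h.hv, conn_refl v, h1⟩
  · refine ⟨v + w, h.m2, c2, ?_⟩
    have h2 : σ.s (w + w) = v + v := by rw [← h1, σ.sq]
    rw [nvw, map_add, h1, h2, add_comm]
  · refine ⟨w, h.hw, c1, ?_⟩
    have h2 : σ.s (v + v + (w + w)) = v + v := by rw [← h1, σ.sq]
    rw [map_add, h1] at h2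
    have h3 : σ.s (w + w) = (v + v + (w + w) + σ.s (w + w)) - (v + v) - (w + w) := by abel
    rw [h3, h2, sub_self, zero_sub, nw]

end GB

/-- the number of generators over a `z` in a G2 component -/
theorem GB.card_twins [Finite A] {v w : A} (h : GB D v w) (rk : ∀ v ∈ D.R, ∃ w ∈ D.R, D.Lk v w) :
    Nat.card {k : A // k ∈ D.R ∧ k + k = v + v} ≤ 8 := by
  have e1 : Nat.card {k : A // k ∈ D.R ∧ k + k = v + v} =
      ({k : A | k ∈ D.R ∧ k + k = v + v} : Set A).ncard := rfl
  rw [e1]
  have hsub : ({k : A | k ∈ D.R ∧ k + k = v + v} : Set A) ⊆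
      {v, -v, v + (w + w), -(v + (w + w))} := by
    rintro k ⟨hk, tk⟩
    have hc : D.Conn v k := conn_of_twin h.hv hk tk.symm rk
    rcases cases_f h.hv hk with h0 | h0 | h0 | h0
    · rcases h.orth hc h0 with h1 | h1
      · right; right; left; exact h1
      · right; right; right; exact h1
    · exfalso
      have h1 := h0.two
      rw [← map_add, tk, map_add, D.self v h.hv] at h1
      exact absurd h1 (by decide)
    · left; exact h0
    · right; left; exact h0
  have h3 := Set.ncard_le_ncard hsub (Set.toFinite _)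
  have h4 : ({v, -v, v + (w + w), -(v + (w + w))} : Set A).ncard ≤ 4 := by
    refine (Set.ncard_insert_le _ _).trans ?_
    have h5 := (Set.ncard_insert_le (-v) ({v + (w + w), -(v + (w + w))} : Set A))
    have h6 := (Set.ncard_insert_le (v + (w + w)) ({-(v + (w + w))} : Set A))
    rw [Set.ncard_singleton] at h6
    omega
  omega

/-! ### The symmetric case: construction of the bilinear form -/

section Sym

variable (D)

/-- symmetry and generation -/
structure Sy : Prop where
  sym : ∀ v ∈ D.R, ∀ w ∈ D.R, D.f v w = D.f w v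
  gen : AddSubgroup.closure D.R = ⊤

variable {D}

theorem Sy.ext (h : Sy D) {φ ψ : A →+ ZMod 4} (he : ∀ v ∈ D.R, φ v = ψ v) : φ = ψ := by
  apply AddMonoidHom.ext
  intro a
  have ha : a ∈ AddSubgroup.closure D.R := by rw [h.gen]; trivial
  induction ha using AddSubgroup.closure_induction with
  | mem x hx => exact he x hx
  | zero => rw [map_zero, map_zero]
  | add x y _ _ hx hy => rw [map_add, map_add, hx, hy]
  | neg x _ hx => rw [map_neg, map_neg, hx]

theorem Sy.exists_form (h : Sy D) (b : A) : ∃ φ : A →+ ZMod 4, ∀ v ∈ D.R, φ v = D.f v b := by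
  have hb : b ∈ AddSubgroup.closure D.R := by rw [h.gen]; trivial
  induction hb using AddSubgroup.closure_induction with
  | mem x hx => exact ⟨D.f x, fun v hv => h.sym x hx v hv⟩
  | zero => exact ⟨0, fun v _ => by rw [map_zero]; rfl⟩
  | add x y _ _ hx hy =>
    obtain ⟨φ, hφ⟩ := hx
    obtain ⟨ψ, hψ⟩ := hy
    exact ⟨φ + ψ, fun v hv => by rw [AddMonoidHom.add_apply, hφ v hv, hψ v hv, map_add]⟩
  | neg x _ hx =>
    obtain ⟨φ, hφ⟩ := hx
    exact ⟨-φ, fun v hv => by rw [AddMonoidHom.neg_apply, hφ v hv, map_neg]⟩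

/-- the bilinear form -/
noncomputable def Sy.B (h : Sy D) : A →+ A →+ ZMod 4 where
  toFun b := (h.exists_form b).choose
  map_zero' := h.ext fun v hv => by
    rw [(h.exists_form 0).choose_spec v hv, map_zero, AddMonoidHom.zero_apply]
  map_add' a b := h.ext fun v hv => by
    rw [(h.exists_form (a + b)).choose_spec v hv, AddMonoidHom.add_apply,
      (h.exists_form a).choose_spec v hv, (h.exists_form b).choose_spec v hv, map_add]

theorem Sy.B_apply (h : Sy D) (b : A) {v : A} (hv : v ∈ D.R) : h.B b v = D.f v b :=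
  (h.exists_form b).choose_spec v hv

theorem Sy.B_root (h : Sy D) {v : A} (hv : v ∈ D.R) (a : A) : h.B v a = D.f v a := by
  have : h.B v = D.f v := h.ext fun w hw => by rw [h.B_apply v hw, h.sym w hw v hv]
  rw [this]

theorem Sy.B_symm (h : Sy D) (a b : A) : h.B a b = h.B b a := by
  have hb : b ∈ AddSubgroup.closure D.R := by rw [h.gen]; trivial
  induction hb using AddSubgroup.closure_induction with
  | mem x hx => rw [h.B_apply a hx, h.B_root hx]
  | zero => rw [map_zero, map_zero, AddMonoidHom.zero_apply]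
  | add x y _ _ hx hy => rw [map_add, map_add, AddMonoidHom.add_apply, hx, hy]
  | neg x _ hx => rw [map_neg, map_neg, AddMonoidHom.neg_apply, hx]

/-- the bilinear root datum -/
noncomputable def Sy.rd (h : Sy D) : RD A where
  B := h.B
  R := D.R
  symm := h.B_symm
  neg := D.neg
  self v hv := by rw [h.B_root hv, D.self v hv]
  eq_or v hv w hw h1 := D.eq_or v hv w hw (by rw [← h.B_root hv, h1])
  add v hv w hw h1 := by
    rw [add_comm]
    exact RF.add hv hw (by rw [← h.B_root hv, h1])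
  four := D.four

theorem Sy.adj (h : Sy D) {v w : A} : h.rd.Adj v w ↔ D.Adj v w := by
  constructor
  · rintro ⟨h1, h2, h3⟩
    refine ⟨h1, h2, ?_⟩
    rw [← h.B_root h1]; exact h3
  · rintro ⟨h1, h2, h3⟩
    refine ⟨h1, h2, ?_⟩
    change h.B v w ≠ 0
    rw [h.B_root h1]; exact h3

theorem Sy.conn (h : Sy D) {v w : A} : h.rd.Conn v w ↔ D.Conn v w := by
  constructor
  · intro h1
    induction h1 with
    | refl => exact conn_refl _
    | tail _ hb ih => exact ih.trans (conn_of_adj (h.adj.mp hb))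
  · intro h1
    induction h1 with
    | refl => exact RD.conn_refl _
    | tail _ hb ih => exact ih.trans (RD.conn_of_adj (h.adj.mpr hb))

theorem Sy.lk (h : Sy D) {v w : A} (hv : v ∈ D.R) : h.rd.Lk v w ↔ D.Lk v w := by
  change (h.B v w = 1 ∨ h.B v w = -1) ↔ _
  rw [h.B_root hv]; rfl

theorem Sy.rk (h : Sy D) (rk : ∀ v ∈ D.R, ∃ w ∈ D.R, D.Lk v w) :
    ∀ v ∈ h.rd.R, ∃ w ∈ h.rd.R, h.rd.Lk v w := by
  intro v hv
  obtain ⟨w, hw, h1⟩ := rk v hv
  exact ⟨w, hw, (h.lk hv).mpr h1⟩

/-- the isometry of the bilinear datum -/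
noncomputable def Sy.iv (h : Sy D) (σ : IF D) : Iv h.rd where
  s := σ.s
  sq := σ.sq
  mem := σ.mem
  iso a b := by
    have h1 : ∀ v ∈ D.R, ∀ b, h.B (σ.s v) (σ.s b) = h.B v b := by
      intro v hv b
      rw [h.B_root (σ.mem v hv), h.B_root hv, σ.iso v hv]
    have ha : a ∈ AddSubgroup.closure D.R := by rw [h.gen]; trivial
    change h.B (σ.s a) (σ.s b) = h.B a b
    induction ha using AddSubgroup.closure_induction with
    | mem x hx => exact h1 x hx b
    | zero => rw [map_zero, map_zero, AddMonoidHom.zero_apply, AddMonoidHom.zero_apply]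
    | add x y _ _ hx hy =>
      rw [map_add, map_add, map_add, AddMonoidHom.add_apply, AddMonoidHom.add_apply, hx, hy]
    | neg x _ hx =>
      rw [map_neg, map_neg, map_neg, AddMonoidHom.neg_apply, AddMonoidHom.neg_apply, hx]

theorem Sy.good (h : Sy D) {σ : IF D} (hσ : σ.Good) : (h.iv σ).Good where
  one := hσ.one
  three v hv w hw h1 h2 h3 := hσ.three v hv w hw h1 h2 ((h.lk hv).mp h3)
  two v hv h1 := hσ.two v hv ((h.lk hv).mp h1)

end Sym

/-! ### Both cases -/

/-- all bonds are A2 (and the roots generate), or every root has a G2 bond -/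
def Alt (D : RF A) : Prop := Sy D ∨ ∀ v ∈ D.R, ∃ w, GB D v w

/-- **(L2')** an isometric involution normalising a component fixes one of its `z`'s -/
theorem Alt.fix_z (h : Alt D) {σ : IF D} {v : A} (hv : v ∈ D.R) (hc : D.Conn v (σ.s v)) :
    ∃ n ∈ D.R, D.Conn v n ∧ σ.s (n + n) = n + n := by
  rcases h with h | h
  · obtain ⟨n, hn, hvn, h1⟩ := (h.iv σ).exists_line hv (h.conn.mpr hc)
    refine ⟨n, hn, h.conn.mp hvn, ?_⟩
    change σ.s n = n ∨ σ.s n = -n at h1
    rcases h1 with h1 | h1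
    · rw [map_add, h1]
    · rw [map_add, h1]
      have : -n + -n = n + n - (n + n + (n + n)) := by abel
      rw [this, D.four n hn, sub_zero]
  · obtain ⟨w, hw⟩ := h v hv
    exact hw.fix_z hc

/-- at most eight generators over a `z` -/
theorem Alt.card_le [Finite A] (h : Alt D) (rk : ∀ v ∈ D.R, ∃ w ∈ D.R, D.Lk v w) {v : A}
    (hv : v ∈ D.R) : Nat.card {k : A // k ∈ D.R ∧ k + k = v + v} ≤ 8 := by
  rcases h with h | h
  · obtain ⟨d, hd, hl⟩ := rk v hv
    have hl' := hl.symm hv hd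
    have h1 := Iv.card_twins (D := h.rd) (g := v) (d := d) hd
    have f4 := D.four v hv
    let T := {k : A // k ∈ h.rd.R ∧ k + k = v + v ∧ h.rd.B d k = -1}
    have hlk : ∀ k : A, k ∈ D.R → k + k = v + v → h.B d k = 1 ∨ h.B d k = -1 := by
      intro k hk tk
      rw [h.B_root hd]
      exact twin_lk tk.symm hl'
    have nn : ∀ k : A, k + k = v + v → -k + -k = v + v := by
      intro k tk
      have : -k + -k = -(k + k) := by abel
      rw [this, tk]
      have : -(v + v) = v + v - (v + v + (v + v)) := by abel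
      rw [this, f4, sub_zero]
    let φ : T × Bool → {k : A // k ∈ D.R ∧ k + k = v + v} := fun x =>
      if x.2 then ⟨x.1.1, x.1.2.1, x.1.2.2.1⟩ else ⟨-x.1.1, D.neg _ x.1.2.1, nn _ x.1.2.2.1⟩
    have hφ : Function.Surjective φ := by
      rintro ⟨k, hk, tk⟩
      rcases hlk k hk tk with h2 | h2
      · refine ⟨(⟨-k, D.neg k hk, nn k tk, ?_⟩, false), ?_⟩
        · change h.B d (-k) = -1
          rw [map_neg, h2]
        · simp [φ]
      · exact ⟨(⟨k, hk, tk, h2⟩, true), by simp [φ]⟩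
    have h2 := Nat.card_le_card_of_surjective φ hφ
    rw [Nat.card_prod] at h2
    have h3 : Nat.card T ≤ 4 := h1
    have h4 : Nat.card Bool = 2 := by simp
    rw [h4] at h2
    omega
  · obtain ⟨w, hw⟩ := h v hv
    exact hw.card_twins rk

/-- two moved component pairs give sixteen fixed elements of order two -/
theorem sixteen [Finite A] {σ : IF D} {v w : A} (hv : v ∈ D.R) (hw : w ∈ D.R)
    (rk : ∀ v ∈ D.R, ∃ w ∈ D.R, D.Lk v w)
    (h1 : ¬ D.Conn v (σ.s v)) (h2 : ¬ D.Conn w (σ.s w)) (h3 : ¬ D.Conn v w)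
    (h4 : ¬ D.Conn (σ.s v) w) : 16 ≤ Nat.card {u : A // u + u = 0 ∧ σ.s u = u} := by
  obtain ⟨v', hv', hvv'⟩ := rk v hv
  obtain ⟨w', hw', hww'⟩ := rk w hw
  have cv := conn_of_lk hv hv' hvv'
  have cw := conn_of_lk hw hw' hww'
  have fixm : ∀ x ∈ D.R, (x + x + (σ.s x + σ.s x)) + (x + x + (σ.s x + σ.s x)) = 0 ∧
      σ.s (x + x + (σ.s x + σ.s x)) = x + x + (σ.s x + σ.s x) := by
    intro x hx
    have a1 := D.four x hx
    have a2 := D.four _ (σ.mem x hx)
    constructor
    · have : x + x + (σ.s x + σ.s x) + (x + x + (σ.s x + σ.s x)) =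
          (x + x + (x + x)) + (σ.s x + σ.s x + (σ.s x + σ.s x)) := by abel
      rw [this, a1, a2, add_zero]
    · rw [map_add, map_add, map_add, σ.sq, add_comm]
  -- values of the functionals `f y`
  have sym {x y : A} (h : ¬ D.Conn x y) : ¬ D.Conn y x := fun h' => h h'.symm
  have bv : ∀ x ∈ D.R, ∀ y ∈ D.R, ¬ D.Conn (σ.s x) y →
      D.f y (x + x + (σ.s x + σ.s x)) = D.f y x + D.f y x := by
    intro x hx y hy hn
    rw [map_add, map_add, map_add, orth_of_not_conn hy (σ.mem x hx) (sym hn), add_zero, add_zero]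
  have zero_of : ∀ x ∈ D.R, ∀ y ∈ D.R, ¬ D.Conn x y → ¬ D.Conn (σ.s x) y →
      D.f y (x + x + (σ.s x + σ.s x)) = 0 := by
    intro x hx y hy hn hn'
    rw [bv x hx y hy hn', orth_of_not_conn hy hx (sym hn), add_zero]
  have svv' : D.Conn (σ.s v) (σ.s v') := σ.conn cv
  have sww' : D.Conn (σ.s w) (σ.s w') := σ.conn cw
  have n1 : ¬ D.Conn (σ.s v) v' := fun h => h1 (cv.trans h.symm)
  have n2 : ¬ D.Conn (σ.s v') v := fun h => h1 ((svv'.trans h).symm)
  have n3 : ¬ D.Conn (σ.s v) v := fun h => h1 h.symm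
  have n4 : ¬ D.Conn (σ.s v') v' := fun h => n1 (svv'.trans h)
  have m1 : ¬ D.Conn (σ.s w) w' := fun h => h2 (cw.trans h.symm)
  have m2 : ¬ D.Conn (σ.s w') w := fun h => h2 ((sww'.trans h).symm)
  have m3 : ¬ D.Conn (σ.s w) w := fun h => h2 h.symm
  have m4 : ¬ D.Conn (σ.s w') w' := fun h => m1 (sww'.trans h)
  have k1 : ¬ D.Conn v w' := fun h => h3 (h.trans cw.symm)
  have k2 : ¬ D.Conn v' w := fun h => h3 (cv.trans h)
  have k3 : ¬ D.Conn v' w' := fun h => h3 ((cv.trans h).trans cw.symm)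
  have l1 : ¬ D.Conn (σ.s v) w' := fun h => h4 (h.trans cw.symm)
  have l2 : ¬ D.Conn (σ.s v') w := fun h => h4 (svv'.trans h)
  have l3 : ¬ D.Conn (σ.s v') w' := fun h => h4 ((svv'.trans h).trans cw.symm)
  have swap' : ∀ {x y : A}, ¬ D.Conn (σ.s x) y → ¬ D.Conn (σ.s y) x := by
    intro x y h h'
    apply h
    have := σ.conn h'
    rw [σ.sq] at this
    exact this.symm
  set f₁ := v + v + (σ.s v + σ.s v) with hf1
  set f₂ := v' + v' + (σ.s v' + σ.s v') with hf2
  set f₃ := w + w + (σ.s w + σ.s w) with hf3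
  set f₄ := w' + w' + (σ.s w' + σ.s w') with hf4
  have e11 : D.f v' f₁ = 2 := by rw [bv v hv v' hv' n1, (hvv'.symm hv hv').two]
  have e21 : D.f v' f₂ = 0 := by rw [bv v' hv' v' hv' n4, D.self v' hv']; decide
  have e31 : D.f v' f₃ = 0 := zero_of w hw v' hv' (sym k2) (swap' l2)
  have e41 : D.f v' f₄ = 0 := zero_of w' hw' v' hv' (sym k3) (swap' l3)
  have e12 : D.f v f₁ = 0 := by rw [bv v hv v hv n3, D.self v hv]; decide
  have e22 : D.f v f₂ = 2 := by rw [bv v' hv' v hv n2, hvv'.two]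
  have e32 : D.f v f₃ = 0 := zero_of w hw v hv (sym h3) (swap' h4)
  have e42 : D.f v f₄ = 0 := zero_of w' hw' v hv (sym k1) (swap' l1)
  have e13 : D.f w' f₁ = 0 := zero_of v hv w' hw' k1 l1
  have e23 : D.f w' f₂ = 0 := zero_of v' hv' w' hw' k3 l3
  have e33 : D.f w' f₃ = 2 := by rw [bv w hw w' hw' m1, (hww'.symm hw hw').two]
  have e43 : D.f w' f₄ = 0 := by rw [bv w' hw' w' hw' m4, D.self w' hw']; decide
  have e14 : D.f w f₁ = 0 := zero_of v hv w hw h3 h4
  have e24 : D.f w f₂ = 0 := zero_of v' hv' w hw k2 l2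
  have e34 : D.f w f₃ = 0 := by rw [bv w hw w hw m3, D.self w hw]; decide
  have e44 : D.f w f₄ = 2 := by rw [bv w' hw' w hw m2, hww'.two]
  have g1 := fixm v hv
  have g2 := fixm v' hv'
  have g3 := fixm w hw
  have g4 := fixm w' hw'
  let P : A → Prop := fun u => u + u = 0 ∧ σ.s u = u
  have Padd : ∀ a b, P a → P b → P (a + b) := by
    intro a b ha hb
    refine ⟨?_, by rw [map_add, ha.2, hb.2]⟩
    have : a + b + (a + b) = (a + a) + (b + b) := by abel
    rw [this, ha.1, hb.1, add_zero]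
  have Pif : ∀ (c : Bool) a, P a → P (if c then a else 0) := by
    intro c a ha
    cases c
    · exact ⟨add_zero _, map_zero _⟩
    · exact ha
  let Φ : Bool × Bool × Bool × Bool → {u : A // u + u = 0 ∧ σ.s u = u} := fun x =>
    ⟨(if x.1 then f₁ else 0) + (if x.2.1 then f₂ else 0) + (if x.2.2.1 then f₃ else 0) +
      (if x.2.2.2 then f₄ else 0),
      Padd _ _ (Padd _ _ (Padd _ _ (Pif _ _ g1) (Pif _ _ g2)) (Pif _ _ g3)) (Pif _ _ g4)⟩
  have hΦ : Function.Injective Φ := by
    rintro ⟨a, b, c, d⟩ ⟨a', b', c', d'⟩ hab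
    have h0 := congrArg Subtype.val hab
    simp only [Φ] at h0
    have t1 := congrArg (D.f v') h0
    have t2 := congrArg (D.f v) h0
    have t3 := congrArg (D.f w') h0
    have t4 := congrArg (D.f w) h0
    simp only [map_add, apply_ite (D.f v'), apply_ite (D.f v), apply_ite (D.f w'),
      apply_ite (D.f w), map_zero, e11, e21, e31, e41, e12, e22, e32, e42, e13, e23, e33, e43,
      e14, e24, e34, e44, ite_self, add_zero, zero_add] at t1 t2 t3 t4
    have fin : ∀ x y : Bool, (if x = true then (2 : ZMod 4) else 0) = (if y = true then 2 else 0) →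
        x = y := by decide
    rw [fin _ _ t1, fin _ _ t2, fin _ _ t3, fin _ _ t4]
  have := Nat.card_le_card_of_injective Φ hΦ
  simpa using this

end RF

end Cfsg.Agent.Cit.Nil.CV3
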