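import Cfsg.Agent.Cit.Nil.CV3.Root

/-!
# Root data mod 4, invariant and moved components (S1309, (CV), section 3)
-/

set_option autoImplicit false

namespace Cfsg.Agent.Cit.Nil.CV3.Iv

open RD

variable {A : Type*} [AddCommGroup A] {D : RD A} {σ : Iv D}

namespace Dat

variable {g d : A}

/-- **(A1)** the only twins of `g` are `±h` (if at all) -/
theorem twin (h : Dat σ g d) {k : A} (hk : k ∈ D.R) (ht : k + k = g + g) :
    k = g ∨ k = -g ∨ k = Dat.h σ g d ∨ k = -Dat.h σ g d := by
  by_contra hno
  have hni : σ.s k ≠ -k := fun hi => hno (h.twin_inv hk hi ht)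
  have hnf : σ.s k ≠ k := h.good.one k hk
  obtain ⟨n1, n2, n3, n4⟩ : k ≠ g ∧ k ≠ -g ∧ k ≠ Dat.h σ g d ∧ k ≠ -Dat.h σ g d := by tauto
  have f4 := D.four g h.hg
  -- normalise the sign of `k`
  have hlk : D.Lk d k := (twin_lk ht.symm h.lk.symm).symm
  clear hno
  wlog hs : D.B d k = -1 generalizing k
  · refine this (k := -k) (D.neg k hk) ?_ ?_ ?_ ?_ ?_ ?_ ?_ hlk.neg_right ?_
    · have : -k + -k = -(k + k) := by abel
      rw [this, ht]
      have : -(g + g) = g + g - (g + g + (g + g)) := by abel
      rw [this, f4, sub_zero]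
    · rw [map_neg]; exact fun h1 => hni (neg_injective h1)
    · rw [map_neg]; exact fun h1 => hnf (neg_injective h1)
    · exact fun h1 => n2 (by rw [← h1, neg_neg])
    · exact fun h1 => n1 (neg_injective h1)
    · exact fun h1 => n4 (by rw [← h1, neg_neg])
    · exact fun h1 => n3 (neg_injective h1)
    · rcases hlk with h1 | h1
      · rw [map_neg, h1]
      · exact absurd h1 hs
  have hsk := σ.mem k hk
  have htsk : σ.s k + σ.s k = g + g := by
    rw [← map_add, ht, map_add, h.inv]
    have : -g + -g = g + g - (g + g + (g + g)) := by abel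
    rw [this, f4, sub_zero]
  have hlk' : D.Lk d (σ.s k) := (twin_lk htsk.symm h.lk.symm).symm
  have snn : σ.s (σ.s k) = k := σ.sq k
  -- the normalised image
  obtain ⟨k', hk', tk', dk', hkk⟩ : ∃ k' ∈ D.R, k' + k' = g + g ∧ D.B d k' = -1 ∧
      (k' = σ.s k ∨ k' = -σ.s k) := by
    rcases hlk' with h1 | h1
    · refine ⟨-σ.s k, D.neg _ hsk, ?_, by rw [map_neg, h1], Or.inr rfl⟩
      have : -σ.s k + -σ.s k = -(σ.s k + σ.s k) := by abel
      rw [this, htsk]
      have : -(g + g) = g + g - (g + g + (g + g)) := by abel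
      rw [this, f4, sub_zero]
    · exact ⟨σ.s k, hsk, htsk, h1, Or.inl rfl⟩
  have nk'g : g ≠ k' := by
    rintro rfl
    rcases hkk with h1 | h1
    · apply n2
      rw [← snn, ← h1, h.inv]
    · apply n1
      rw [← snn, ← neg_neg (σ.s k), ← h1, map_neg, h.inv, neg_neg]
  have nkk' : k ≠ k' := by
    intro h1
    rcases hkk with h2 | h2
    · exact hnf (by rw [← h2, ← h1])
    · exact hni (by rw [h1] at *; exact (neg_eq_iff_eq_neg.mpr h2).symm)
  -- orthogonality of twins with the same value at `d`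
  have key : ∀ {a b : A}, a ∈ D.R → b ∈ D.R → a + a = b + b → D.B d a = -1 → D.B d b = -1 → a ≠ b →
      D.B a b = 0 := by
    intro a b ha hb hab ea eb hne
    refine twin_orth ha hb hab (Ne.symm hne) ?_
    rintro rfl
    rw [map_neg, ea] at eb
    exact absurd eb (by decide)
  have ogk : D.B g k = 0 := key h.hg hk ht.symm h.dg hs (Ne.symm n1)
  have ogk' : D.B g k' = 0 := key h.hg hk' tk'.symm h.dg dk' nk'g
  have okk' : D.B k k' = 0 := key hk hk' (ht.trans tk'.symm) hs dk' nkk'
  -- the fourth twin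
  have m1 : d + g ∈ D.R := D.add _ h.hd _ h.hg h.dg
  have m2 : d + g + k ∈ D.R := D.add _ m1 _ hk (by rw [B_add_left, hs, ogk, add_zero])
  have m3 : d + g + k + k' ∈ D.R :=
    D.add _ m2 _ hk' (by rw [B_add_left, B_add_left, dk', ogk', okk', add_zero, add_zero])
  have m4 : d + (d + g + k + k') ∈ D.R :=
    D.add _ h.hd _ m3 (by rw [map_add, map_add, map_add, D.self d h.hd, h.dg, hs, dk']; decide)
  set e : A := -(d + (d + g + k + k')) with he
  have me : e ∈ D.R := D.neg _ m4
  have eB : ∀ u, D.B u e = -(D.B u d + D.B u d + D.B u g + D.B u k + D.B u k') := by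
    intro u
    rw [he, map_neg, map_add, map_add, map_add, map_add]
    ring
  have de : D.B d e = -1 := by
    rw [eB, D.self d h.hd, h.dg, hs, dk']; decide
  have te : e + e = g + g := by
    have f4d := D.four d h.hd
    have : e + e = -(d + d + (d + d)) - (g + g) - (k + k) - (k' + k') := by rw [he]; abel
    rw [this, f4d, ht, tk']
    have : -(0 : A) - (g + g) - (g + g) - (g + g) = (g + g) - (g + g + (g + g)) - (g + g + (g + g)) := by
      abel
    rw [this, f4]; abel
  have ge : D.B g e = 0 := by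
    rw [eB, D.self g h.hg, h.gd, ogk, ogk']; decide
  have ke : D.B k e = 0 := by
    rw [eB, D.symm k d, hs, D.symm k g, ogk, D.self k hk, okk']; decide
  have k'e : D.B k' e = 0 := by
    rw [eB, D.symm k' d, dk', D.symm k' g, ogk', D.symm k' k, okk', D.self k' hk']; decide
  have hse := σ.mem e me
  have tse : σ.s e + σ.s e = g + g := by
    rw [← map_add, te, map_add, h.inv]
    have : -g + -g = g + g - (g + g + (g + g)) := by abel
    rw [this, f4, sub_zero]
  have hlse : D.Lk d (σ.s e) := (twin_lk tse.symm h.lk.symm).symm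
  have sse : σ.s (σ.s e) = e := σ.sq e
  obtain ⟨e', he', te', de', hee⟩ : ∃ e' ∈ D.R, e' + e' = g + g ∧ D.B d e' = -1 ∧
      (e' = σ.s e ∨ e' = -σ.s e) := by
    rcases hlse with h1 | h1
    · refine ⟨-σ.s e, D.neg _ hse, ?_, by rw [map_neg, h1], Or.inr rfl⟩
      have : -σ.s e + -σ.s e = -(σ.s e + σ.s e) := by abel
      rw [this, tse]
      have : -(g + g) = g + g - (g + g + (g + g)) := by abel
      rw [this, f4, sub_zero]
    · exact ⟨σ.s e, hse, tse, h1, Or.inl rfl⟩
  have hee' : e = σ.s e' ∨ e = -σ.s e' := by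
    rcases hee with h1 | h1
    · left; rw [h1, sse]
    · right; rw [h1, map_neg, sse, neg_neg]
  have h5 := twin_four h.hd h.hg hk hk' h.dg hs dk' ht tk' (Ne.symm n1) nk'g nkk' he' te' de'
  have hkk' : σ.s k' = k ∨ σ.s k' = -k := by
    rcases hkk with h1 | h1
    · left; rw [h1, snn]
    · right; rw [h1, map_neg, snn]
  have einv : σ.s e = -e := by
    rcases h5 with h6 | h6 | h6 | h6
    · exfalso
      rw [h6, h.inv] at hee'
      rcases hee' with h7 | h7
      · rw [h7, map_neg, D.self g h.hg] at ge; exact absurd ge (by decide)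
      · rw [h7, neg_neg, D.self g h.hg] at ge; exact absurd ge (by decide)
    · exfalso
      rw [h6] at hee'
      have : e = k' ∨ e = -k' := by
        rcases hkk with h8 | h8 <;> rcases hee' with h7 | h7
        · left; rw [h7, h8]
        · right; rw [h7, h8]
        · right; rw [h7, h8, neg_neg]
        · left; rw [h7, h8]
      rcases this with h7 | h7
      · rw [h7, D.self k' hk'] at k'e; exact absurd k'e (by decide)
      · rw [h7, map_neg, D.self k' hk'] at k'e; exact absurd k'e (by decide)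
    · exfalso
      rw [h6] at hee'
      have : e = k ∨ e = -k := by
        rcases hkk' with h8 | h8 <;> rcases hee' with h7 | h7
        · left; rw [h7, h8]
        · right; rw [h7, h8]
        · right; rw [h7, h8]
        · left; rw [h7, h8, neg_neg]
      rcases this with h7 | h7
      · rw [h7, D.self k hk] at ke; exact absurd ke (by decide)
      · rw [h7, map_neg, D.self k hk] at ke; exact absurd ke (by decide)
    · have h7 : e' = e := by rw [h6, he]; abel
      rw [h7] at hee
      rcases hee with h8 | h8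
      · exact absurd h8.symm (h.good.one e me)
      · rw [← neg_eq_iff_eq_neg] at h8; exact h8.symm
  have eh : e = -Dat.h σ g d := by
    rcases h.twin_inv me einv te with h6 | h6 | h6 | h6
    · rw [h6, D.self g h.hg] at ge; exact absurd ge (by decide)
    · rw [h6, map_neg, D.self g h.hg] at ge; exact absurd ge (by decide)
    · rw [h6, D.symm, h.h_d] at de; exact absurd de (by decide)
    · exact h6
  -- `σ k = k'`
  have hsd : σ.s d = d + g + e := by
    rw [eh]; unfold Dat.h; abel
  have h7 : D.B (σ.s d) (σ.s k) = -1 := by rw [σ.iso]; exact hs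
  have h8 : D.B g (σ.s k) = 0 := by
    rcases hkk with h1 | h1
    · rw [← h1]; exact ogk'
    · have : σ.s k = -k' := by rw [h1, neg_neg]
      rw [this, map_neg, ogk', neg_zero]
  have h9 : D.B e (σ.s k) = 0 := by
    rcases hkk with h1 | h1
    · rw [← h1, D.symm]; exact k'e
    · have : σ.s k = -k' := by rw [h1, neg_neg]
      rw [this, map_neg, D.symm, k'e, neg_zero]
  rw [hsd, B_add_left, B_add_left, h8, h9, add_zero, add_zero] at h7
  have h10 : σ.s k = k' := by
    rcases hkk with h1 | h1
    · exact h1.symm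
    · rw [h1, map_neg, h7] at dk'; exact absurd dk' (by decide)
  have mdk : d + k ∈ D.R := D.add _ h.hd _ hk hs
  have hdk : σ.s (d + k) = -(d + k) := by
    rw [map_add, hsd, h10, he]; abel
  refine h.good.three (d + k) mdk g h.hg hdk h.inv ?_
  right
  rw [B_add_left, h.dg, D.symm k g, ogk, add_zero]

/-- `z_h` is fixed -/
theorem fix_h (h : Dat σ g d) : σ.s (Dat.h σ g d + Dat.h σ g d) = Dat.h σ g d + Dat.h σ g d := by
  have f4 := D.four _ h.mem_h
  rw [map_add, h.inv_h]
  have : -Dat.h σ g d + -Dat.h σ g d = Dat.h σ g d + Dat.h σ g d -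
    (Dat.h σ g d + Dat.h σ g d + (Dat.h σ g d + Dat.h σ g d)) := by abel
  rw [this, f4, sub_zero]

theorem fix_g (h : Dat σ g d) : σ.s (g + g) = g + g := by
  have f4 := D.four _ h.hg
  rw [map_add, h.inv]
  have : -g + -g = g + g - (g + g + (g + g)) := by abel
  rw [this, f4, sub_zero]

theorem gg_ne (h : Dat σ g d) : g + g ≠ 0 := by
  intro h0
  have h1 : D.B (g + g) d = 0 := by rw [h0, map_zero, AddMonoidHom.zero_apply]
  rw [B_add_left, h.gd] at h1
  exact absurd h1 (by decide)

theorem hh_ne (h : Dat σ g d) : Dat.h σ g d + Dat.h σ g d ≠ 0 := by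
  intro h0
  have h1 : D.B (Dat.h σ g d + Dat.h σ g d) d = 0 := by rw [h0, map_zero, AddMonoidHom.zero_apply]
  rw [B_add_left, h.h_d] at h1
  exact absurd h1 (by decide)

/-- the four-element condition on the fixed points of order two -/
def Four (σ : Iv D) (g d : A) : Prop :=
  ∀ u, u + u = 0 → σ.s u = u → u = 0 ∨ u = g + g ∨ u = d + d ∨ u = (g + g) + (d + d)

variable (h : Dat σ g d) (ht : Dat.h σ g d + Dat.h σ g d = g + g)

include h ht

omit h in
theorem fix_d : σ.s (d + d) = d + d := by
  have h1 : Dat.h σ g d + Dat.h σ g d = d + d + (g + g) - (σ.s d + σ.s d) := by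
    unfold Dat.h; abel
  rw [h1] at ht
  rw [map_add]
  have h2 : σ.s d + σ.s d = d + d + (g + g) - (d + d + (g + g) - (σ.s d + σ.s d)) := by abel
  rw [h2, ht]; abel

theorem s_d (hF : Four σ g d) : σ.s d = -d + (g + g) := by
  have f4 := D.four _ h.hg
  have f4d := D.four _ h.hd
  have hfd := fix_d ht
  rw [map_add] at hfd
  have hu1 : (d - σ.s d) + (d - σ.s d) = 0 := by
    have : (d - σ.s d) + (d - σ.s d) = (d + d) - (σ.s d + σ.s d) := by abel
    rw [this, hfd, sub_self]
  have hu2 : σ.s (d - σ.s d) = d - σ.s d := by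
    rw [map_sub, σ.sq]
    have : σ.s d - d = d - σ.s d - ((d - σ.s d) + (d - σ.s d)) := by abel
    rw [this, hu1, sub_zero]
  have bg : D.B (d - σ.s d) g = 2 := by
    rw [B_sub_left, h.dg, h.sdg]; decide
  have bd : D.B (d - σ.s d) d = 2 := by
    rw [B_sub_left, D.self d h.hd, D.symm, h.dsd, sub_zero]
  rcases hF _ hu1 hu2 with h1 | h1 | h1 | h1
  · rw [h1, map_zero, AddMonoidHom.zero_apply] at bg; exact absurd bg (by decide)
  · rw [h1, B_add_left, D.self g h.hg] at bg; exact absurd bg (by decide)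
  · rw [h1, B_add_left, D.self d h.hd] at bd; exact absurd bd (by decide)
  · have : σ.s d = d - (d - σ.s d) := by abel
    rw [this, h1]
    have : d - (g + g + (d + d)) = -d + (g + g) - (g + g + (g + g)) := by abel
    rw [this, f4, sub_zero]

/-- the same for another neighbour of `g` -/
theorem other (hF : Four σ g d) {d' : A} (hd' : d' ∈ D.R) (hdg : D.B d' g = -1) :
    Dat σ g d' ∧ Dat.h σ g d' + Dat.h σ g d' = g + g ∧ Four σ g d' := by
  have h' : Dat σ g d' := ⟨h.good, h.hg, hd', h.inv, hdg⟩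
  have f4 := D.four _ h.hg
  have f4d' := D.four _ hd'
  have ht' : Dat.h σ g d' + Dat.h σ g d' = g + g := by
    rcases h'.twin h.mem_h ht with h1 | h1 | h1 | h1
    · exact absurd h1 h.h_ne.1
    · exact absurd h1 h.h_ne.2
    · rw [← h1, ht]
    · have h2 : Dat.h σ g d' = -Dat.h σ g d := by rw [h1, neg_neg]
      rw [h2]
      have : -Dat.h σ g d + -Dat.h σ g d = -(Dat.h σ g d + Dat.h σ g d) := by abel
      rw [this, ht]
      have : -(g + g) = g + g - (g + g + (g + g)) := by abel
      rw [this, f4, sub_zero]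
  refine ⟨h', ht', ?_⟩
  have h2 := hF (d' + d') f4d' (fix_d ht')
  have bg : D.B (d' + d') g = 2 := by rw [B_add_left, hdg]; decide
  intro u hu1 hu2
  have h3 := hF u hu1 hu2
  rcases h2 with h4 | h4 | h4 | h4
  · rw [h4, map_zero, AddMonoidHom.zero_apply] at bg; exact absurd bg (by decide)
  · rw [h4, B_add_left, D.self g h.hg] at bg; exact absurd bg (by decide)
  · rwa [h4]
  · rw [h4]
    rcases h3 with h3 | h3 | h3 | h3
    · exact Or.inl h3
    · exact Or.inr (Or.inl h3)
    · right; right; right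
      rw [h3]
      have : g + g + (g + g + (d + d)) = (g + g + (g + g)) + (d + d) := by abel
      rw [this, f4, zero_add]
    · right; right; left
      rw [h3]

/-- `z`'s of the component of `g` are fixed -/
theorem fix_all (hF : Four σ g d) {v : A} (hv : v ∈ D.R) (hc : D.Conn g v) :
    σ.s (v + v) = v + v := by
  have lkc : ∀ e ∈ D.R, D.Lk e g → σ.s (e + e) = e + e := by
    intro e he hl
    rcases hl with h1 | h1
    · have h2 := h.other ht hF (D.neg e he) (by rw [B_neg_left, h1])
      have h3 := fix_d h2.2.1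
      have : -e + -e = -(e + e) := by abel
      rw [this, map_neg] at h3
      exact neg_injective h3
    · have h2 := h.other ht hF he h1
      exact fix_d h2.2.1
  rcases cases_B h.hg hv with h0 | h1 | h1 | h1
  · rcases common h.hg hc with h2 | ⟨q, hq, hqg, hqv⟩
    · exact absurd h0 h2
    · obtain ⟨e, he, hee⟩ := exists_comb hq hv hqv
      have hB : D.B e g = D.B q g := by
        rcases hee with rfl | rfl
        · rw [B_add_left, D.symm v, h0, add_zero]
        · rw [B_sub_left, D.symm v, h0, sub_zero]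
      have h3 := lkc e he (by unfold Lk; rw [hB]; exact hqg)
      have h4 := lkc q hq hqg
      rcases hee with rfl | rfl
      · have : v + v = (q + v + (q + v)) - (q + q) := by abel
        rw [this, map_sub, h3, h4]
      · have : v + v = (q + q) - (q - v + (q - v)) := by abel
        rw [this, map_sub, h3, h4]
  · exact lkc v hv h1.symm
  · rw [h1]; exact h.fix_g
  · rw [h1]
    have : -g + -g = -(g + g) := by abel
    rw [this, map_neg, h.fix_g]

/-- a root of the component of `g` is a twin of `g` or linked to `g` -/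
theorem twin_or (hF : Four σ g d) {v : A} (hv : v ∈ D.R) (hc : D.Conn g v) :
    v + v = g + g ∨ D.Lk g v := by
  rcases cases_B h.hg hv with h0 | h1 | h1 | h1
  · left
    rcases common h.hg hc with h2 | ⟨q, hq, hqg, hqv⟩
    · exact absurd h0 h2
    · have h3 := hF (v + v) (D.four v hv) (fix_all h ht hF hv hc)
      rcases h3 with h3 | h3 | h3 | h3
      · exfalso
        have h4 := hqv.two
        rw [← map_add, h3, map_zero] at h4
        exact absurd h4 (by decide)
      · exact h3
      · exfalso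
        have h4 : D.B g (v + v) = 0 := by rw [map_add, h0, add_zero]
        rw [h3, map_add, h.gd] at h4
        exact absurd h4 (by decide)
      · exfalso
        have h4 : D.B g (v + v) = 0 := by rw [map_add, h0, add_zero]
        rw [h3, map_add, map_add, map_add, D.self g h.hg, h.gd] at h4
        exact absurd h4 (by decide)
  · exact Or.inr h1
  · left; rw [h1]
  · left; rw [h1]
    have : -g + -g = g + g - (g + g + (g + g)) := by abel
    rw [this, D.four g h.hg, sub_zero]

omit ht in
/-- there is only one component -/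
theorem conn_all (hF : Four σ g d) (rk : ∀ v ∈ D.R, ∃ w ∈ D.R, D.Lk v w) {w : A} (hw : w ∈ D.R) :
    D.Conn g w := by
  by_contra hno
  have hcd : D.Conn g d := conn_of_lk h.hg h.hd h.lk.symm
  have orth : ∀ x ∈ D.R, ¬ D.Conn g x → D.B x g = 0 ∧ D.B x d = 0 := by
    intro x hx hn
    constructor
    · rw [D.symm]; exact orth_of_not_conn h.hg hx hn
    · rw [D.symm]; exact orth_of_not_conn h.hd hx (fun h1 => hn (hcd.trans h1))
  -- an element of the four-group orthogonal to `g` and `d` is trivial
  have triv : ∀ u, u + u = 0 → σ.s u = u → D.B u g = 0 → D.B u d = 0 → u = 0 := by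
    intro u h1 h2 h3 h4
    rcases hF u h1 h2 with h5 | h5 | h5 | h5
    · exact h5
    · rw [h5, B_add_left, h.gd] at h4; exact absurd h4 (by decide)
    · rw [h5, B_add_left, h.dg] at h3; exact absurd h3 (by decide)
    · rw [h5, B_add_left, B_add_left, B_add_left, D.self g h.hg, h.dg] at h3
      exact absurd h3 (by decide)
  by_cases hc : D.Conn w (σ.s w)
  · obtain ⟨k, hk, hwk, hki⟩ := h.good.exists_inv hw hc
    obtain ⟨k', hk', hkk'⟩ := rk k hk
    have hnk : ¬ D.Conn g k := fun h1 => hno (h1.trans hwk.symm)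
    have o := orth k hk hnk
    have h4 := D.four k hk
    have h1 : k + k = 0 := by
      refine triv (k + k) h4 ?_ ?_ ?_
      · rw [map_add, hki]
        have : -k + -k = k + k - (k + k + (k + k)) := by abel
        rw [this, h4, sub_zero]
      · rw [B_add_left, o.1, add_zero]
      · rw [B_add_left, o.2, add_zero]
    have h2 := hkk'.two
    rw [← B_add_left, h1, map_zero, AddMonoidHom.zero_apply] at h2
    exact absurd h2 (by decide)
  · obtain ⟨w', hw', hww'⟩ := rk w hw
    have hsw := σ.mem w hw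
    have hnsw : ¬ D.Conn g (σ.s w) := by
      intro h1
      have h2 := σ.conn h1
      rw [h.inv, σ.sq] at h2
      exact hno ((conn_neg h.hg).trans h2)
    have o1 := orth w hw hno
    have o2 := orth (σ.s w) hsw hnsw
    have h4 := D.four w hw
    have h4' := D.four _ hsw
    have h1 : (w + w) + (σ.s w + σ.s w) = 0 := by
      refine triv _ ?_ ?_ ?_ ?_
      · have : w + w + (σ.s w + σ.s w) + (w + w + (σ.s w + σ.s w)) =
          (w + w + (w + w)) + (σ.s w + σ.s w + (σ.s w + σ.s w)) := by abel
        rw [this, h4, h4', add_zero]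
      · rw [map_add, map_add, map_add, σ.sq, add_comm]
      · rw [B_add_left, B_add_left, B_add_left, o1.1, o2.1]; decide
      · rw [B_add_left, B_add_left, B_add_left, o1.2, o2.2]; decide
    have h5 : D.B (σ.s w) w' = 0 := by
      refine orth_of_not_conn hsw hw' fun h6 => hc ?_
      exact (conn_of_lk hw hw' hww').trans h6.symm
    have h2 := hww'.two
    have h6 : D.B ((w + w) + (σ.s w + σ.s w)) w' = 2 := by
      rw [B_add_left, B_add_left, B_add_left, h5, h2]; decide
    rw [h1, map_zero, AddMonoidHom.zero_apply] at h6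
    exact absurd h6 (by decide)

end Dat

/-- at most four twins over a neighbour -/
theorem card_twins [Finite A] {g d : A} (hd : d ∈ D.R) :
    Nat.card {k : A // k ∈ D.R ∧ k + k = g + g ∧ D.B d k = -1} ≤ 4 := by
  have e1 : Nat.card {k : A // k ∈ D.R ∧ k + k = g + g ∧ D.B d k = -1} =
      ({k : A | k ∈ D.R ∧ k + k = g + g ∧ D.B d k = -1} : Set A).ncard := rfl
  rw [e1]
  by_contra hno
  push Not at hno
  have h2 : 2 < ({k : A | k ∈ D.R ∧ k + k = g + g ∧ D.B d k = -1} : Set A).ncard := by omega
  rw [Set.two_lt_ncard_iff (Set.toFinite _)] at h2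
  obtain ⟨a, b, c, ha, hb, hc, hab, hac, hbc⟩ := h2
  have hsub : ({k : A | k ∈ D.R ∧ k + k = g + g ∧ D.B d k = -1} : Set A) ⊆
      {a, b, c, -d - d - a - b - c} := by
    rintro k ⟨hk, tk, dk⟩
    exact twin_four hd ha.1 hb.1 hc.1 ha.2.2 hb.2.2 hc.2.2 (hb.2.1.trans ha.2.1.symm)
      (hc.2.1.trans ha.2.1.symm) hab hac hbc hk (tk.trans ha.2.1.symm) dk
  have h3 := Set.ncard_le_ncard hsub (Set.toFinite _)
  have h4 : ({a, b, c, -d - d - a - b - c} : Set A).ncard ≤ 4 := by
    refine (Set.ncard_insert_le _ _).trans ?_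
    have h5 := (Set.ncard_insert_le b ({c, -d - d - a - b - c} : Set A))
    have h6 := (Set.ncard_insert_le c ({-d - d - a - b - c} : Set A))
    rw [Set.ncard_singleton] at h6
    omega
  omega

/-- two moved component pairs give sixteen fixed elements of order two -/
theorem sixteen [Finite A] {v w : A} (hv : v ∈ D.R) (hw : w ∈ D.R)
    (rk : ∀ v ∈ D.R, ∃ w ∈ D.R, D.Lk v w)
    (h1 : ¬ D.Conn v (σ.s v)) (h2 : ¬ D.Conn w (σ.s w)) (h3 : ¬ D.Conn v w)
    (h4 : ¬ D.Conn (σ.s v) w) : 16 ≤ Nat.card {u : A // u + u = 0 ∧ σ.s u = u} := by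
  obtain ⟨v', hv', hvv'⟩ := rk v hv
  obtain ⟨w', hw', hww'⟩ := rk w hw
  have cv := conn_of_lk hv hv' hvv'
  have cw := conn_of_lk hw hw' hww'
  have fixm : ∀ x ∈ D.R, (x + x + (σ.s x + σ.s x)) + (x + x + (σ.s x + σ.s x)) = 0 ∧
      σ.s (x + x + (σ.s x + σ.s x)) = x + x + (σ.s x + σ.s x) := by
    intro x hx
    have a1 := D.four x hx
    have a2 := D.four _ (σ.mem x hx)
    constructor
    · have : x + x + (σ.s x + σ.s x) + (x + x + (σ.s x + σ.s x)) =
          (x + x + (x + x)) + (σ.s x + σ.s x + (σ.s x + σ.s x)) := by abel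
      rw [this, a1, a2, add_zero]
    · rw [map_add, map_add, map_add, σ.sq, add_comm]
  -- values
  have bv : ∀ x ∈ D.R, ∀ y ∈ D.R, ¬ D.Conn (σ.s x) y →
      D.B (x + x + (σ.s x + σ.s x)) y = D.B x y + D.B x y := by
    intro x hx y hy hn
    rw [B_add_left, B_add_left, B_add_left, orth_of_not_conn (σ.mem x hx) hy hn, add_zero, add_zero]
  have zero_of : ∀ x ∈ D.R, ∀ y ∈ D.R, ¬ D.Conn x y → ¬ D.Conn (σ.s x) y →
      D.B (x + x + (σ.s x + σ.s x)) y = 0 := by
    intro x hx y hy hn hn'
    rw [bv x hx y hy hn', orth_of_not_conn hx hy hn, add_zero]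
  have svv' : D.Conn (σ.s v) (σ.s v') := σ.conn cv
  have sww' : D.Conn (σ.s w) (σ.s w') := σ.conn cw
  -- non-connections
  have n1 : ¬ D.Conn (σ.s v) v' := fun h => h1 (cv.trans h.symm)
  have n2 : ¬ D.Conn (σ.s v') v := fun h => h1 ((svv'.trans h).symm)
  have n3 : ¬ D.Conn (σ.s v) v := fun h => h1 h.symm
  have n4 : ¬ D.Conn (σ.s v') v' := fun h => n1 (svv'.trans h)
  have m1 : ¬ D.Conn (σ.s w) w' := fun h => h2 (cw.trans h.symm)
  have m2 : ¬ D.Conn (σ.s w') w := fun h => h2 ((sww'.trans h).symm)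
  have m3 : ¬ D.Conn (σ.s w) w := fun h => h2 h.symm
  have m4 : ¬ D.Conn (σ.s w') w' := fun h => m1 (sww'.trans h)
  have k1 : ¬ D.Conn v w' := fun h => h3 (h.trans cw.symm)
  have k2 : ¬ D.Conn v' w := fun h => h3 (cv.trans h)
  have k3 : ¬ D.Conn v' w' := fun h => h3 ((cv.trans h).trans cw.symm)
  have l1 : ¬ D.Conn (σ.s v) w' := fun h => h4 (h.trans cw.symm)
  have l2 : ¬ D.Conn (σ.s v') w := fun h => h4 (svv'.trans h)
  have l3 : ¬ D.Conn (σ.s v') w' := fun h => h4 ((svv'.trans h).trans cw.symm)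
  have swap' : ∀ {x y : A}, ¬ D.Conn (σ.s x) y → ¬ D.Conn (σ.s y) x := by
    intro x y h h'
    apply h
    have := σ.conn h'
    rw [σ.sq] at this
    exact this.symm
  set f₁ := v + v + (σ.s v + σ.s v) with hf1
  set f₂ := v' + v' + (σ.s v' + σ.s v') with hf2
  set f₃ := w + w + (σ.s w + σ.s w) with hf3
  set f₄ := w' + w' + (σ.s w' + σ.s w') with hf4
  have sym {x y : A} (h : ¬ D.Conn x y) : ¬ D.Conn y x := fun h' => h h'.symm
  have e11 : D.B f₁ v' = 2 := by rw [bv v hv v' hv' n1, hvv'.two]
  have e21 : D.B f₂ v' = 0 := by rw [bv v' hv' v' hv' n4, D.self v' hv']; decide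
  have e31 : D.B f₃ v' = 0 := zero_of w hw v' hv' (sym k2) (swap' l2)
  have e41 : D.B f₄ v' = 0 := zero_of w' hw' v' hv' (sym k3) (swap' l3)
  have e12 : D.B f₁ v = 0 := by rw [bv v hv v hv n3, D.self v hv]; decide
  have e22 : D.B f₂ v = 2 := by rw [bv v' hv' v hv n2, hvv'.symm.two]
  have e32 : D.B f₃ v = 0 := zero_of w hw v hv (sym h3) (swap' h4)
  have e42 : D.B f₄ v = 0 := zero_of w' hw' v hv (sym k1) (swap' l1)
  have e13 : D.B f₁ w' = 0 := zero_of v hv w' hw' k1 l1
  have e23 : D.B f₂ w' = 0 := zero_of v' hv' w' hw' k3 l3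
  have e33 : D.B f₃ w' = 2 := by rw [bv w hw w' hw' m1, hww'.two]
  have e43 : D.B f₄ w' = 0 := by rw [bv w' hw' w' hw' m4, D.self w' hw']; decide
  have e14 : D.B f₁ w = 0 := zero_of v hv w hw h3 h4
  have e24 : D.B f₂ w = 0 := zero_of v' hv' w hw k2 l2
  have e34 : D.B f₃ w = 0 := by rw [bv w hw w hw m3, D.self w hw]; decide
  have e44 : D.B f₄ w = 2 := by rw [bv w' hw' w hw m2, hww'.symm.two]
  have g1 := fixm v hv
  have g2 := fixm v' hv'
  have g3 := fixm w hw
  have g4 := fixm w' hw'
  let P : A → Prop := fun u => u + u = 0 ∧ σ.s u = u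
  have Padd : ∀ a b, P a → P b → P (a + b) := by
    intro a b ha hb
    refine ⟨?_, by rw [map_add, ha.2, hb.2]⟩
    have : a + b + (a + b) = (a + a) + (b + b) := by abel
    rw [this, ha.1, hb.1, add_zero]
  have Pif : ∀ (c : Bool) a, P a → P (if c then a else 0) := by
    intro c a ha
    cases c
    · exact ⟨add_zero _, map_zero _⟩
    · exact ha
  let Φ : Bool × Bool × Bool × Bool → {u : A // u + u = 0 ∧ σ.s u = u} := fun x =>
    ⟨(if x.1 then f₁ else 0) + (if x.2.1 then f₂ else 0) + (if x.2.2.1 then f₃ else 0) +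
      (if x.2.2.2 then f₄ else 0),
      Padd _ _ (Padd _ _ (Padd _ _ (Pif _ _ g1) (Pif _ _ g2)) (Pif _ _ g3)) (Pif _ _ g4)⟩
  have hΦ : Function.Injective Φ := by
    rintro ⟨a, b, c, d⟩ ⟨a', b', c', d'⟩ hab
    have h0 := congrArg Subtype.val hab
    simp only [Φ] at h0
    have t1 := congrArg (fun u => D.B u v') h0
    have t2 := congrArg (fun u => D.B u v) h0
    have t3 := congrArg (fun u => D.B u w') h0
    have t4 := congrArg (fun u => D.B u w) h0
    simp only [map_add, AddMonoidHom.add_apply, apply_ite D.B, map_zero,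
      apply_ite (fun F : A →+ ZMod 4 => F v'), apply_ite (fun F : A →+ ZMod 4 => F v),
      apply_ite (fun F : A →+ ZMod 4 => F w'), apply_ite (fun F : A →+ ZMod 4 => F w),
      AddMonoidHom.zero_apply, e11, e21, e31, e41, e12, e22, e32, e42, e13, e23, e33, e43,
      e14, e24, e34, e44, ite_self, add_zero, zero_add] at t1 t2 t3 t4
    have fin : ∀ x y : Bool, (if x = true then (2 : ZMod 4) else 0) = (if y = true then 2 else 0) →
        x = y := by decide
    rw [fin _ _ t1, fin _ _ t2, fin _ _ t3, fin _ _ t4]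
  have := Nat.card_le_card_of_injective Φ hΦ
  simpa using this

end Cfsg.Agent.Cit.Nil.CV3.Iv
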